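import Groth.Agent.CubeX17.Global
import Groth.Agent.H23.MaxAbelian
import Groth.Agent.H23.PicMul
import Mathlib.AlgebraicGeometry.Morphisms.Immersion

/-!
# The theorem of the cube for abelian schemes
-/

set_option autoImplicit false
set_option linter.style.haveILetI false
set_option linter.unusedSectionVars false
set_option backward.isDefEq.respectTransparency false
set_option backward.isDefEq.respectTransparency.types false

universe u

open CategoryTheory CategoryTheory.Limits MonoidalCategory CartesianMonoidalCategory AlgebraicGeometry TopologicalSpace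
open scoped MonObj

namespace Groth.Agent.CubeX17.AbSch

open Groth.Agent.H23 Groth.Agent.H23.TrivBasic
open scoped Groth.Agent.H23.PicMul CategoryTheory.Obj

variable {S : Scheme.{u}} (X : Over S) [GrpObj X]

/-- The class of the pullback of `c` along a morphism. -/
noncomputable abbrev F {X T : Over S} (c : PicF.Cl X.left) (u : T ⟶ X) : PicF.Cl T.left :=
  PicMul.pullHom u.left c

theorem pull_F {X T T' : Over S} (g : T' ⟶ T) (c : PicF.Cl X.left) (u : T ⟶ X) :
    PicMul.pullHom g.left (F c u) = F c (g ≫ u) :=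
  PicClLib.pullCl_comp g.left u.left c

theorem eq_one_of_left {T : Over S} (f : T ⟶ X) (g : T.left ⟶ S) (h : f.left = g ≫ (η : 𝟙_ (Over S) ⟶ X).left) :
    f = 1 := by
  have hg : g = T.hom := by
    have h2 := congrArg (· ≫ X.hom) h
    simp only [Category.assoc, Over.w] at h2
    exact (Category.comp_id g).symm.trans h2.symm
  subst hg
  exact Over.OverMorphism.ext h

theorem geometricallyIntegral [IsProper X.hom] [GeometricallyReduced X.hom] [GeometricallyConnected X.hom] :
    GeometricallyIntegral X.hom := by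
  refine MaxAbelian.geometricallyIntegral_of_pullback _ fun K _ x => ?_
  let A := (Over.pullback x).obj X
  letI : GrpObj A := Functor.grpObjObj
  haveI : IsProper A.hom := inferInstanceAs (IsProper (pullback.snd X.hom x))
  haveI : GeometricallyReduced A.hom := inferInstanceAs (GeometricallyReduced (pullback.snd X.hom x))
  haveI : GeometricallyConnected A.hom := inferInstanceAs (GeometricallyConnected (pullback.snd X.hom x))
  haveI : ConnectedSpace A.left := GeometricallyConnected.connectedSpace_of_subsingleton (f := A.hom)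
  haveI := MaxAbelian.geometricallyIntegral_of_connected A
  exact GeometricallyIntegral.isIntegral_of_subsingleton A.hom

theorem fiberι_eq_comp_one [IsSeparated X.hom] (s : S) :
    ∃ g, X.left.fromSpecResidueField ((η : 𝟙_ (Over S) ⟶ X).left s) = g ≫ (η : 𝟙_ (Over S) ⟶ X).left := by
  let e : S ⟶ X.left := (η : 𝟙_ (Over S) ⟶ X).left
  have he : e ≫ X.hom = 𝟙 S := Over.w (η : 𝟙_ (Over S) ⟶ X)
  haveI : IsClosedImmersion (e ≫ X.hom) := by rw [he]; infer_instance
  haveI : IsClosedImmersion e := IsClosedImmersion.of_comp e X.hom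
  haveI : IsIso (e.residueFieldMap s) := by
    refine (ConcreteCategory.isIso_iff_bijective _).2 ⟨RingHom.injective _, fun a => ?_⟩
    obtain ⟨b, rfl⟩ := S.residue_surjective s a
    obtain ⟨c, rfl⟩ := e.stalkMap_surjective s b
    exact ⟨X.left.residue (e s) c, congr($(Scheme.residue_residueFieldMap e s) c)⟩
  refine ⟨inv (Spec.map (e.residueFieldMap s)) ≫ S.fromSpecResidueField s, ?_⟩
  show X.left.fromSpecResidueField (e s) = _
  rw [Category.assoc, IsIso.eq_inv_comp]
  exact e.SpecMap_residueFieldMap_fromSpecResidueField s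

variable {X} [IsProper X.hom] [Flat X.hom] [LocallyOfFinitePresentation X.hom] [GeometricallyReduced X.hom]
  [GeometricallyConnected X.hom]

/-- The theorem of the cube on the universal triple. -/
theorem cube_univ {c : PicF.Cl X.left} (hc : PicF.IsInvertibleCl c) :
    F c (fst (X ⊗ X) X ≫ fst X X * (fst (X ⊗ X) X ≫ snd X X) * snd (X ⊗ X) X) * F c (fst (X ⊗ X) X ≫ fst X X) *
        F c (fst (X ⊗ X) X ≫ snd X X) * F c (snd (X ⊗ X) X) =
      F c (fst (X ⊗ X) X ≫ fst X X * (fst (X ⊗ X) X ≫ snd X X)) *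
        F c (fst (X ⊗ X) X ≫ fst X X * snd (X ⊗ X) X) *
        F c ((fst (X ⊗ X) X ≫ snd X X) * snd (X ⊗ X) X) * F c (1 : ((X ⊗ X) ⊗ X) ⟶ X) := by
  haveI := geometricallyIntegral X
  let p := fst (X ⊗ X) X ≫ fst X X
  let q := fst (X ⊗ X) X ≫ snd X X
  let r := snd (X ⊗ X) X
  let lhs := F c (p * q * r) * F c p * F c q * F c r
  let rhs := F c (p * q) * F c (p * r) * F c (q * r) * F c 1
  show lhs = rhs
  have hinv : ∀ u : ((X ⊗ X) ⊗ X) ⟶ X, PicF.IsInvertibleCl (F c u) := fun u => PicClLib.isInvertibleCl_pullCl _ hc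
  have hrhs : PicF.IsInvertibleCl rhs := PicMul.isInvertibleCl_mul
    (PicMul.isInvertibleCl_mul (PicMul.isInvertibleCl_mul (hinv _) (hinv _)) (hinv _)) (hinv _)
  have hlhs : PicF.IsInvertibleCl lhs :=
    PicMul.isInvertibleCl_mul (PicMul.isInvertibleCl_mul (PicMul.isInvertibleCl_mul (hinv _) (hinv _)) (hinv _)) (hinv _)
  obtain ⟨R, hRcl, hR⟩ := hrhs
  obtain ⟨D, hD, hRD⟩ := PicInv.exists_inverse hR
  have h1 : rhs * PicF.cl D = 1 := by
    rw [← hRcl]
    exact PicMul.cl_eq_iff.2 hRD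
  obtain ⟨M, hMcl, hM⟩ := PicMul.isInvertibleCl_mul hlhs ⟨D, rfl, hD⟩
  suffices h : lhs * PicF.cl D = 1 by
    calc lhs = lhs * (PicF.cl D * rhs) := by rw [mul_comm (PicF.cl D), h1, mul_one]
      _ = rhs := by rw [← mul_assoc, h, one_mul]
  rw [← hMcl]
  refine PicMul.cl_eq_iff.2 ?_
  have hslice : ∀ {T : Over S} (σ : T ⟶ (X ⊗ X) ⊗ X),
      (σ ≫ p = 1 ∨ σ ≫ q = 1 ∨ σ ≫ r = 1) → Triv ((Scheme.Modules.pullback σ.left).obj M) := by
    intro T σ hσ
    refine PicMul.cl_eq_iff.1 ?_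
    show PicMul.pullHom σ.left (PicF.cl M) = 1
    rw [hMcl, map_mul]
    suffices h : PicMul.pullHom σ.left lhs = PicMul.pullHom σ.left rhs by
      rw [h, ← map_mul, h1, map_one]
    simp only [lhs, rhs, map_mul, pull_F, MonObj.comp_mul, MonObj.comp_one]
    rcases hσ with h | h | h <;> simp only [h, one_mul, mul_one] <;> ac_rfl
  let ρ₁ := lift (toUnit X ≫ (η : 𝟙_ (Over S) ⟶ X)) (𝟙 X)
  let ρ₂ := lift (𝟙 X) (toUnit X ≫ (η : 𝟙_ (Over S) ⟶ X))
  let σ₁ : Over.mk (ρ₁.left ≫ (X ⊗ X).hom) ⟶ X ⊗ X := Over.homMk ρ₁.left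
  let σ₂ : Over.mk (ρ₂.left ≫ (X ⊗ X).hom) ⟶ X ⊗ X := Over.homMk ρ₂.left
  have hσ₁ : σ₁ ≫ fst X X = 1 :=
    eq_one_of_left X _ X.hom (congrArg (·.left) (lift_fst (toUnit X ≫ (η : 𝟙_ (Over S) ⟶ X)) (𝟙 X)))
  have hσ₂ : σ₂ ≫ snd X X = 1 :=
    eq_one_of_left X _ X.hom (congrArg (·.left) (lift_snd (𝟙 X) (toUnit X ≫ (η : 𝟙_ (Over S) ⟶ X))))
  obtain ⟨W, hW, hfib, hT⟩ := exists_clopen_triv_fibres (Z := X.left) X.hom X.hom X.hom
    (η : 𝟙_ (Over S) ⟶ X).left (Over.w _) (η : 𝟙_ (Over S) ⟶ X).left (Over.w _) M hM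
    ρ₁.left (congrArg (·.left) (lift_fst (toUnit X ≫ (η : 𝟙_ (Over S) ⟶ X)) (𝟙 X)))
    (congrArg (·.left) (lift_snd (toUnit X ≫ (η : 𝟙_ (Over S) ⟶ X)) (𝟙 X)))
    ρ₂.left (congrArg (·.left) (lift_fst (𝟙 X) (toUnit X ≫ (η : 𝟙_ (Over S) ⟶ X))))
    (congrArg (·.left) (lift_snd (𝟙 X) (toUnit X ≫ (η : 𝟙_ (Over S) ⟶ X))))
    (σ₁ ▷ X).left (Over.whiskerRight_left_fst σ₁) (Over.whiskerRight_left_snd σ₁)
    (σ₂ ▷ X).left (Over.whiskerRight_left_fst σ₂) (Over.whiskerRight_left_snd σ₂)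
    (hslice _ (Or.inl (by
      rw [← Category.assoc, whiskerRight_fst, Category.assoc, hσ₁, MonObj.comp_one])))
    (hslice _ (Or.inr (Or.inl (by
      rw [← Category.assoc, whiskerRight_fst, Category.assoc, hσ₂, MonObj.comp_one]))))
  let π := pullback.snd (pullback.fst X.hom X.hom ≫ X.hom) X.hom
  have he : ∀ s : S, (η : 𝟙_ (Over S) ⟶ X).left s ∈ W := fun s => by
    refine hfib _ ?_
    let z := (η : 𝟙_ (Over S) ⟶ X).left s
    let ι' : Over.mk (π.fiberι z ≫ ((X ⊗ X) ⊗ X).hom) ⟶ (X ⊗ X) ⊗ X := Over.homMk (π.fiberι z)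
    obtain ⟨g, hg⟩ := fiberι_eq_comp_one X s
    refine hslice ι' (Or.inr (Or.inr (eq_one_of_left X _ (π.fiberToSpecResidueField z ≫ g) ?_)))
    show π.fiberι z ≫ π = _
    rw [π.fiber_fac z, hg, Category.assoc]
  have hWtop : W = ⊤ := top_le_iff.1 fun w _ => by
    let s := X.hom w
    haveI : ConnectedSpace ↥(X.hom.fiber s) :=
      GeometricallyConnected.geometrically_connectedSpace (f := X.hom) (S.fromSpecResidueField s) _ _
        (IsPullback.of_hasPullback _ _)
    have hpre : _root_.IsPreconnected (X.hom ⁻¹' {s}) :=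
      (Scheme.Hom.range_fiberι X.hom s) ▸ isPreconnected_range (X.hom.fiberι s).continuous
    refine hpre.subset_isClopen ⟨hW, W.isOpen⟩ ⟨_, ?_, he s⟩ (show w ∈ X.hom ⁻¹' {s} from rfl)
    have : ((η : 𝟙_ (Over S) ⟶ X).left ≫ X.hom) s = s := by rw [Over.w]; rfl
    exact this
  subst hWtop
  let U : Scheme.Opens _ := π ⁻¹ᵁ (⊤ : X.left.Opens)
  exact SeesawGlobal.triv_of_factor (IsOpenImmersion.lift U.ι (𝟙 _) (by simp [U]))
    (IsOpenImmersion.lift_fac _ _ _) hT |> fun h => Triv.of_iso ((Scheme.Modules.pullbackId _).app M) h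

/-- The theorem of the cube for three points. -/
theorem cube {T : Over S} {c : PicF.Cl X.left} (hc : PicF.IsInvertibleCl c) (f g h : T ⟶ X) :
    F c (f * g * h) * F c f * F c g * F c h = F c (f * g) * F c (f * h) * F c (g * h) * F c (1 : T ⟶ X) := by
  have := congrArg (PicMul.pullHom (lift (lift f g) h).left) (cube_univ hc)
  simp only [map_mul, pull_F, MonObj.comp_mul, MonObj.comp_one, lift_fst_assoc, lift_fst, lift_snd] at this
  exact this

/-- The triangular numbers, for an integer. -/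
def tri (n : ℤ) : ℤ := (n ^ 2 + n) / 2

theorem two_mul_tri (n : ℤ) : 2 * tri n = n ^ 2 + n := by
  refine Int.mul_ediv_cancel' (even_iff_two_dvd.1 ?_)
  rw [show n ^ 2 + n = n * (n + 1) by ring]
  exact Int.even_mul_succ_self n

/-- The solution of the recursion of the theorem of the cube. -/
theorem rec_solution {G : Type*} [CommGroup G] (u v w : G) (g : ℤ → G) (h0 : g 0 = w) (h1 : g 1 = u)
    (h : ∀ n, g (n + 1) * g (n - 1) * (w * w) = g n * g n * (u * v)) (n : ℤ) :
    g n = u ^ tri n * v ^ tri (-n) * w ^ (1 - n ^ 2) := by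
  let s : ℤ → G := fun n => u ^ tri n * v ^ tri (-n) * w ^ (1 - n ^ 2)
  have hs : ∀ n, s (n + 1) * s (n - 1) * (w * w) = s n * s n * (u * v) := fun n => by
    have hu : tri (n + 1) + tri (n - 1) = tri n + tri n + 1 := by
      nlinarith [two_mul_tri (n + 1), two_mul_tri (n - 1), two_mul_tri n]
    have hv : tri (-(n + 1)) + tri (-(n - 1)) = tri (-n) + tri (-n) + 1 := by
      nlinarith [two_mul_tri (-(n + 1)), two_mul_tri (-(n - 1)), two_mul_tri (-n)]
    have hw : 1 - (n + 1) ^ 2 + (1 - (n - 1) ^ 2) + 2 = 1 - n ^ 2 + (1 - n ^ 2) := by ring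
    calc s (n + 1) * s (n - 1) * (w * w)
        = u ^ (tri (n + 1) + tri (n - 1)) * v ^ (tri (-(n + 1)) + tri (-(n - 1))) *
            w ^ (1 - (n + 1) ^ 2 + (1 - (n - 1) ^ 2) + 2) := by
          simp only [s, zpow_add, zpow_ofNat, pow_two]; ac_rfl
      _ = s n * s n * (u * v) := by
          rw [hu, hv, hw]; simp only [s, zpow_add, zpow_one]; ac_rfl
  have b0 : g 0 = s 0 := by simp [s, tri, h0]
  have b1 : g 1 = s 1 := by simp [s, tri, h1]
  suffices H : ∀ n, g n = s n ∧ g (n + 1) = s (n + 1) from (H n).1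
  intro n
  induction n using Int.induction_on with
  | zero => exact ⟨b0, b1⟩
  | succ k ih =>
    refine ⟨ih.2, ?_⟩
    have e := h (k + 1)
    have e' := hs (k + 1)
    rw [add_sub_cancel_right, ih.1, ih.2] at e
    rw [add_sub_cancel_right] at e'
    exact mul_right_cancel (mul_right_cancel (e.trans e'.symm))
  | pred k ih =>
    refine ⟨?_, by rw [sub_add_cancel]; exact ih.1⟩
    have e := h (-k)
    have e' := hs (-k)
    rw [ih.1, ih.2] at e
    exact mul_left_cancel (mul_right_cancel (e.trans e'.symm))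

end Groth.Agent.CubeX17.AbSch
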