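import Groth.Agent.CubeX17.Step
import Groth.Agent.H23.RigidInf

/-!
# Kernels of restriction for a flat scheme over a local ring with a socle element
-/

set_option autoImplicit false
set_option linter.style.haveILetI false
set_option linter.unusedSectionVars false
set_option backward.isDefEq.respectTransparency false
set_option backward.isDefEq.respectTransparency.types false

universe u

open CategoryTheory CategoryTheory.Limits AlgebraicGeometry TopologicalSpace Opposite IsLocalRing

namespace Groth.Agent.CubeX17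

open Groth.Agent.AModX Groth.Agent.H23

variable {A : Type u} [CommRing A] {X : Scheme.{u}} (p : X ⟶ Spec (CommRingCat.of A))

/-- The global function attached to an element of the base ring. -/
noncomputable def jfun (a : A) : Γ(X, ⊤) := RigidInf.α p ⊤ a

theorem resR_jfun (a : A) (U : X.Opens) : resR (le_top : U ≤ ⊤) (jfun p a) = RigidInf.α p U a :=
  RigidInf.map_α p le_top a

theorem appTop_jfun {Y : Scheme.{u}} (q : Y ⟶ Spec (CommRingCat.of A)) (f : Y ⟶ X) (w : f ≫ p = q) (a : A) :
    f.appTop (jfun p a) = jfun q a := by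
  subst w
  show f.app ⊤ ((p.appLE ⊤ ⊤ le_top) ((Scheme.ΓSpecIso (CommRingCat.of A)).inv a)) =
    ((f ≫ p).appLE ⊤ ⊤ le_top) ((Scheme.ΓSpecIso (CommRingCat.of A)).inv a)
  rw [← ConcreteCategory.comp_apply]
  congr 2
  rw [← Scheme.Hom.appLE_comp_appLE f p ⊤ ⊤ ⊤ le_top le_top]
  simp [Scheme.Hom.appLE]

/-- The kernel of restriction along the pullback of a closed subscheme of the base. -/
theorem app_eq_zero_iff {R : Type u} [CommRing R] {φ : A →+* R} (hφ : Function.Surjective φ) {Y : Scheme.{u}}
    {i : Y ⟶ X} {q : Y ⟶ Spec (CommRingCat.of R)} (h : IsPullback i q p (Spec.map (CommRingCat.ofHom φ)))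
    {U : X.Opens} (hU : IsAffineOpen U) (x : Γ(X, U)) :
    i.app U x = 0 ↔ x ∈ (RingHom.ker φ).map (RigidInf.α p U) := by
  constructor
  · intro hx
    refine RigidInf.mem_of_app_eq_zero p φ hφ hU x ?_
    have e : pullback.fst p (Spec.map (CommRingCat.ofHom φ)) = h.isoPullback.inv ≫ i :=
      h.isoPullback_inv_fst.symm
    rw [e, Scheme.Hom.comp_app, ConcreteCategory.comp_apply, hx, map_zero]
  · intro hx
    refine (Ideal.map_le_iff_le_comap.2 ?_ hx : x ∈ RingHom.ker (i.app U).hom)
    intro a ha
    show i.app U (RigidInf.α p U a) = 0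
    rw [← resR_jfun, app_resR]
    have h1 : i.appTop (jfun p a) = 0 := by
      rw [appTop_jfun p _ i h.w]
      show (q ≫ Spec.map (CommRingCat.ofHom φ)).appLE ⊤ ⊤ le_top ((Scheme.ΓSpecIso (CommRingCat.of A)).inv a) = 0
      rw [show (q ≫ Spec.map (CommRingCat.ofHom φ)).appLE ⊤ ⊤ le_top = (Spec.map (CommRingCat.ofHom φ)).appTop ≫ q.appTop
        by simp [Scheme.Hom.appLE]]
      have h2 : (Spec.map (CommRingCat.ofHom φ)).appTop ((Scheme.ΓSpecIso (CommRingCat.of A)).inv a) =
          (Scheme.ΓSpecIso (CommRingCat.of R)).inv (φ a) :=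
        (ConcreteCategory.congr_hom (Scheme.ΓSpecIso_inv_naturality (CommRingCat.ofHom φ)) a).symm
      show q.appTop ((Spec.map (CommRingCat.ofHom φ)).appTop ((Scheme.ΓSpecIso (CommRingCat.of A)).inv a)) = 0
      rw [h2, show φ a = 0 from ha, map_zero, map_zero]
    exact (congrArg (resR _) h1).trans (map_zero _)

/-- Restriction to `(j) = 0` kills exactly the multiples of `j`. -/
theorem kerMul_of_isPullback {j : A} {R : Type u} [CommRing R] {φ : A →+* R} (hφ : Function.Surjective φ)
    (hker : RingHom.ker φ = Ideal.span {j}) {Y : Scheme.{u}}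
    {i : Y ⟶ X} {q : Y ⟶ Spec (CommRingCat.of R)} (h : IsPullback i q p (Spec.map (CommRingCat.ofHom φ))) :
    KerMul i (jfun p j) := fun U hU x => by
  rw [app_eq_zero_iff p hφ h hU, hker, Ideal.map_span, Set.image_singleton, Ideal.mem_span_singleton', resR_jfun]
  exact ⟨fun ⟨y, hy⟩ => ⟨y, by rw [← hy, mul_comm]⟩, fun ⟨y, hy⟩ => ⟨y, by rw [hy, mul_comm]⟩⟩

/-- Restriction to the closed fibre kills exactly the annihilator of a nonzero socle element. -/
theorem kerAnn_of_isPullback [Flat p] [IsLocalRing A] {j : A} (hj0 : j ≠ 0)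
    (hmj : ∀ a ∈ maximalIdeal A, a * j = 0) {R : Type u} [CommRing R] {φ : A →+* R}
    (hφ : Function.Surjective φ) (hker : RingHom.ker φ = maximalIdeal A) {Y : Scheme.{u}}
    {i : Y ⟶ X} {q : Y ⟶ Spec (CommRingCat.of R)} (h : IsPullback i q p (Spec.map (CommRingCat.ofHom φ))) :
    KerAnn i (jfun p j) := fun U hU x => by
  rw [app_eq_zero_iff p hφ h hU, hker, resR_jfun]
  constructor
  · intro hx
    induction hx using Submodule.span_induction with
    | mem y hy =>
      obtain ⟨a, ha, rfl⟩ := hy
      rw [← map_mul, mul_comm, hmj a ha, map_zero]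
    | zero => rw [mul_zero]
    | add y z _ _ hy hz => rw [mul_add, hy, hz, add_zero]
    | smul c y _ hy => rw [smul_eq_mul, mul_left_comm, hy, mul_zero]
  · intro hx
    refine RigidInf.mem_maximal_map_of_mul_mem (RigidInf.α p U) (RigidInf.flat_α p hU) (J := ⊥)
      (by rwa [Ideal.mem_bot]) ?_
    rw [mul_comm, hx]
    exact zero_mem _

end Groth.Agent.CubeX17
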