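import Groth.Agent.CubeX17.Near
import Groth.Agent.SeesawX.Closed

/-!
# The cube principle over an arbitrary base
-/

set_option autoImplicit false
set_option linter.style.haveILetI false
set_option linter.unusedSectionVars false
set_option backward.isDefEq.respectTransparency false
set_option backward.isDefEq.respectTransparency.types false

universe u

open CategoryTheory CategoryTheory.Limits AlgebraicGeometry TopologicalSpace Opposite

namespace Groth.Agent.CubeX17

open Groth.Agent.H23 Groth.Agent.H23.TrivBasic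

/-- Geometric integrality composes. -/
theorem geometricallyIntegral_comp {P X S : Scheme.{u}} (a : P ⟶ X) (b : X ⟶ S) [GeometricallyIntegral a]
    [Flat a] [LocallyOfFinitePresentation a] [GeometricallyIntegral b] [LocallyOfFiniteType b] :
    GeometricallyIntegral (a ≫ b) := by
  refine ⟨fun {K} _ y Y' fst snd h => ?_⟩
  let fb := pullback.snd b y
  haveI : LocallyOfFiniteType fb := inferInstanceAs (LocallyOfFiniteType (pullback.snd b y))
  haveI : IsLocallyNoetherian (pullback b y) := LocallyOfFiniteType.isLocallyNoetherian fb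
  haveI : IsIntegral (pullback b y) :=
    GeometricallyIntegral.geometrically_isIntegral (f := b) _ _ _ (IsPullback.of_hasPullback b y)
  let c : Y' ⟶ pullback b y := pullback.lift (fst ≫ a) snd (by rw [Category.assoc]; exact h.w)
  have hc1 : c ≫ pullback.fst b y = fst ≫ a := pullback.lift_fst _ _ _
  have hc2 : c ≫ pullback.snd b y = snd := pullback.lift_snd _ _ _
  have hsq : IsPullback fst c a (pullback.fst b y) :=
    IsPullback.of_bot (by rw [hc2]; exact h) hc1.symm (IsPullback.of_hasPullback b y)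
  haveI : GeometricallyIntegral c := MorphismProperty.of_isPullback (P := @GeometricallyIntegral) hsq ‹_›
  haveI : Flat c := MorphismProperty.of_isPullback (P := @Flat) hsq ‹_›
  haveI : LocallyOfFinitePresentation c := MorphismProperty.of_isPullback (P := @LocallyOfFinitePresentation) hsq ‹_›
  exact GeometricallyIntegral.isIntegral_of_isLocallyNoetherian c

theorem univPush_of_geometricallyIntegral {X S : Scheme.{u}} (f : X ⟶ S) [IsProper f] [Flat f]
    [LocallyOfFinitePresentation f] [GeometricallyIntegral f] : SeesawX.UnivPush f :=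
  fun _ _ _ _ _ h W =>
    SeesawX.bijective_app_baseChange f (H23.RigidApply.constFibres_of_geometricallyIntegral f) h W

variable {S X Y Z : Scheme.{u}} (pX : X ⟶ S) (pY : Y ⟶ S) (pZ : Z ⟶ S)
  [Flat pX] [IsProper pX] [LocallyOfFinitePresentation pX] [GeometricallyIntegral pX]
  [Flat pY] [IsProper pY] [LocallyOfFinitePresentation pY] [GeometricallyIntegral pY]

theorem exists_clopen_triv_fibres (x : S ⟶ X) (hx : x ≫ pX = 𝟙 S) (y : S ⟶ Y) (hy : y ≫ pY = 𝟙 S)
    (L : (pullback (pullback.fst pX pY ≫ pX) pZ).Modules) (hL : PicF.IsInvertible L)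
    (l₁ : Y ⟶ pullback pX pY) (hl₁ : l₁ ≫ pullback.fst pX pY = pY ≫ x) (hl₁' : l₁ ≫ pullback.snd pX pY = 𝟙 Y)
    (l₂ : X ⟶ pullback pX pY) (hl₂ : l₂ ≫ pullback.fst pX pY = 𝟙 X) (hl₂' : l₂ ≫ pullback.snd pX pY = pX ≫ y)
    (m₁ : pullback (l₁ ≫ pullback.fst pX pY ≫ pX) pZ ⟶ pullback (pullback.fst pX pY ≫ pX) pZ)
    (hm₁ : m₁ ≫ pullback.fst _ _ = pullback.fst _ _ ≫ l₁) (hm₁' : m₁ ≫ pullback.snd _ _ = pullback.snd _ _)
    (m₂ : pullback (l₂ ≫ pullback.fst pX pY ≫ pX) pZ ⟶ pullback (pullback.fst pX pY ≫ pX) pZ)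
    (hm₂ : m₂ ≫ pullback.fst _ _ = pullback.fst _ _ ≫ l₂) (hm₂' : m₂ ≫ pullback.snd _ _ = pullback.snd _ _)
    (h₁ : Triv ((Scheme.Modules.pullback m₁).obj L)) (h₂ : Triv ((Scheme.Modules.pullback m₂).obj L))
    : ∃ W : Z.Opens, IsClosed (W : Set Z) ∧ (∀ z : Z,
        Triv ((Scheme.Modules.pullback ((pullback.snd (pullback.fst pX pY ≫ pX) pZ).fiberι z)).obj L) → z ∈ W) ∧
      Triv ((Scheme.Modules.pullback (pullback.snd (pullback.fst pX pY ≫ pX) pZ ⁻¹ᵁ W).ι).obj L) := by
  classical
  let π := pullback.fst pX pY ≫ pX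
  let q := pullback.snd π pZ
  haveI : IsProper π := inferInstanceAs (IsProper (pullback.fst pX pY ≫ pX))
  haveI : Flat π := inferInstanceAs (Flat (pullback.fst pX pY ≫ pX))
  haveI : LocallyOfFinitePresentation π := inferInstanceAs (LocallyOfFinitePresentation (pullback.fst pX pY ≫ pX))
  haveI : GeometricallyIntegral π := geometricallyIntegral_comp (pullback.fst pX pY) pX
  haveI : IsProper q := inferInstanceAs (IsProper (pullback.snd π pZ))
  haveI : Flat q := inferInstanceAs (Flat (pullback.snd π pZ))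
  haveI : LocallyOfFinitePresentation q := inferInstanceAs (LocallyOfFinitePresentation (pullback.snd π pZ))
  haveI : GeometricallyIntegral q := inferInstanceAs (GeometricallyIntegral (pullback.snd π pZ))
  let fX := pullback.snd pX pZ
  let gY := pullback.snd pY pZ
  let σ : Z ⟶ pullback pX pZ := pullback.lift (pZ ≫ x) (𝟙 Z)
    (by rw [Category.assoc, hx, Category.comp_id, Category.id_comp])
  let τ : Z ⟶ pullback pY pZ := pullback.lift (pZ ≫ y) (𝟙 Z)
    (by rw [Category.assoc, hy, Category.comp_id, Category.id_comp])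
  have hσ : σ ≫ fX = 𝟙 Z := pullback.lift_snd _ _ _
  have hσ1 : σ ≫ pullback.fst pX pZ = pZ ≫ x := pullback.lift_fst _ _ _
  have hτ : τ ≫ gY = 𝟙 Z := pullback.lift_snd _ _ _
  have hτ1 : τ ≫ pullback.fst pY pZ = pZ ≫ y := pullback.lift_fst _ _ _
  -- the comparison of the two forms of the product
  let r : pullback fX gY ⟶ pullback pX pY := pullback.map fX gY pX pY (pullback.fst pX pZ) (pullback.fst pY pZ) pZ
    pullback.condition.symm pullback.condition.symm
  have hr1 : r ≫ pullback.fst pX pY = pullback.fst fX gY ≫ pullback.fst pX pZ := pullback.lift_fst _ _ _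
  have hr2 : r ≫ pullback.snd pX pY = pullback.snd fX gY ≫ pullback.fst pY pZ := pullback.lift_snd _ _ _
  let e : pullback fX gY ⟶ pullback π pZ := pullback.lift r (pullback.fst fX gY ≫ fX) (by
    rw [← Category.assoc, hr1, Category.assoc, pullback.condition, ← Category.assoc])
  have he1 : e ≫ pullback.fst π pZ = r := pullback.lift_fst _ _ _
  have he2 : e ≫ q = pullback.fst fX gY ≫ fX := pullback.lift_snd _ _ _
  let aX : pullback π pZ ⟶ pullback pX pZ := pullback.lift (pullback.fst π pZ ≫ pullback.fst pX pY) q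
    (by rw [Category.assoc]; exact pullback.condition)
  let aY : pullback π pZ ⟶ pullback pY pZ := pullback.lift (pullback.fst π pZ ≫ pullback.snd pX pY) q
    (by rw [Category.assoc, ← pullback.condition]; exact pullback.condition)
  let d : pullback π pZ ⟶ pullback fX gY := pullback.lift aX aY
    (by rw [pullback.lift_snd, pullback.lift_snd])
  have hd1 : d ≫ pullback.fst fX gY = aX := pullback.lift_fst _ _ _
  have hd2 : d ≫ pullback.snd fX gY = aY := pullback.lift_snd _ _ _
  have hde : d ≫ e = 𝟙 _ := by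
    apply pullback.hom_ext
    · rw [Category.assoc, he1, Category.id_comp]
      apply pullback.hom_ext
      · rw [Category.assoc, hr1, ← Category.assoc, hd1, pullback.lift_fst]
      · rw [Category.assoc, hr2, ← Category.assoc, hd2, pullback.lift_fst]
    · rw [Category.assoc, he2, ← Category.assoc, hd1, pullback.lift_snd, Category.id_comp]
  -- the slices
  let u : pullback pX pZ ⟶ pullback fX gY := pullback.lift (𝟙 _) (fX ≫ τ)
    (by rw [Category.id_comp, Category.assoc, hτ, Category.comp_id])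
  let v : pullback pY pZ ⟶ pullback fX gY := pullback.lift (gY ≫ σ) (𝟙 _)
    (by rw [Category.id_comp, Category.assoc, hσ, Category.comp_id])
  have hu1 : u ≫ pullback.fst fX gY = 𝟙 _ := pullback.lift_fst _ _ _
  have hu2 : u ≫ pullback.snd fX gY = fX ≫ τ := pullback.lift_snd _ _ _
  have hv1 : v ≫ pullback.fst fX gY = gY ≫ σ := pullback.lift_fst _ _ _
  have hv2 : v ≫ pullback.snd fX gY = 𝟙 _ := pullback.lift_snd _ _ _
  have hπ₁ : l₁ ≫ π = pY := by rw [← Category.assoc, hl₁, Category.assoc, hx, Category.comp_id]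
  have hπ₂ : l₂ ≫ π = pX := by rw [← Category.assoc, hl₂, Category.id_comp]
  have hu : Triv ((Scheme.Modules.pullback u).obj ((Scheme.Modules.pullback e).obj L)) := by
    refine (triv_comp_iff _ _).2 (SeesawGlobal.triv_of_factor
      (pullback.lift (pullback.fst pX pZ) fX (by rw [hπ₂]; exact pullback.condition)) ?_ h₂)
    apply pullback.hom_ext
    · rw [Category.assoc, hm₂, ← Category.assoc, pullback.lift_fst, Category.assoc, he1]
      apply pullback.hom_ext
      · rw [Category.assoc, hl₂, Category.assoc, hr1, ← Category.assoc, hu1, Category.comp_id, Category.id_comp]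
      · rw [Category.assoc, hl₂', Category.assoc, hr2, ← Category.assoc u, hu2, Category.assoc, hτ1, ← Category.assoc,
          pullback.condition, Category.assoc]
    · rw [Category.assoc, hm₂', pullback.lift_snd, Category.assoc, he2, ← Category.assoc, hu1, Category.id_comp]
  have hv : Triv ((Scheme.Modules.pullback v).obj ((Scheme.Modules.pullback e).obj L)) := by
    refine (triv_comp_iff _ _).2 (SeesawGlobal.triv_of_factor
      (pullback.lift (pullback.fst pY pZ) gY (by rw [hπ₁]; exact pullback.condition)) ?_ h₁)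
    apply pullback.hom_ext
    · rw [Category.assoc, hm₁, ← Category.assoc, pullback.lift_fst, Category.assoc, he1]
      apply pullback.hom_ext
      · rw [Category.assoc, hl₁, Category.assoc, hr1, ← Category.assoc v, hv1, Category.assoc, hσ1, ← Category.assoc,
          pullback.condition, Category.assoc]
      · rw [Category.assoc, hl₁', Category.assoc, hr2, ← Category.assoc, hv2, Category.comp_id, Category.id_comp]
    · rw [Category.assoc, hm₁', pullback.lift_snd, Category.assoc, he2, ← Category.assoc, hv1, Category.assoc, hσ,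
        Category.comp_id]
  -- openness
  let good : Set Z := {w | Triv ((Scheme.Modules.pullback (q.fiberι w)).obj L)}
  have hopen : ∀ w ∈ good, ∃ U : Z.Opens, w ∈ U ∧ Triv ((Scheme.Modules.pullback (q ⁻¹ᵁ U).ι).obj L) := by
    intro w hw
    have hw' : Triv ((Scheme.Modules.pullback ((pullback.fst fX gY ≫ fX).fiberι w)).obj
        ((Scheme.Modules.pullback e).obj L)) := by
      refine (triv_comp_iff _ _).2 (SeesawGlobal.triv_of_factor
        (pullback.lift ((pullback.fst fX gY ≫ fX).fiberι w ≫ e)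
          ((pullback.fst fX gY ≫ fX).fiberToSpecResidueField w)
          (by rw [Category.assoc, he2]; exact (pullback.fst fX gY ≫ fX).fiber_fac w)) ?_ hw)
      exact pullback.lift_fst _ _ _
    obtain ⟨U, hwU, hU⟩ := exists_nhds_triv fX gY
      (univPush_baseChange (univPush_of_geometricallyIntegral pX) (IsPullback.of_hasPullback pX pZ))
      (univPush_baseChange (univPush_of_geometricallyIntegral pY) (IsPullback.of_hasPullback pY pZ))
      σ hσ τ hτ w _ (PicClLib.isInvertible_pullback e hL) u hu1 hu2 v hv1 hv2 hu hv hw'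
    refine ⟨U, hwU, ?_⟩
    have hU' := (triv_comp_iff _ _).1 hU
    have hle : (q ⁻¹ᵁ U : (pullback π pZ).Opens) ≤ d ⁻¹ᵁ ((pullback.fst fX gY ≫ fX) ⁻¹ᵁ U) := by
      rw [← he2, ← Scheme.Hom.comp_preimage, ← Category.assoc, hde, Category.id_comp]
    refine SeesawGlobal.triv_of_factor (d.resLE _ _ hle) ?_ hU'
    rw [← Category.assoc, Scheme.Hom.resLE_comp_ι, Category.assoc, hde, Category.comp_id]
  have hclosed : IsClosed good := SeesawX.isClosed_fibre_trivial q hL
  have hop : IsOpen good := by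
    rw [isOpen_iff_forall_mem_open]
    intro w hw
    obtain ⟨U, hwU, hU⟩ := hopen w hw
    refine ⟨U, fun w' hw' => ?_, U.isOpen, hwU⟩
    refine SeesawGlobal.triv_of_factor (IsOpenImmersion.lift (q ⁻¹ᵁ U).ι (q.fiberι w') ?_)
      (IsOpenImmersion.lift_fac _ _ _) hU
    rw [Scheme.Opens.range_ι, Scheme.Hom.range_fiberι]
    rintro a (rfl : q a = w')
    exact hw'
  let W : Z.Opens := ⟨good, hop⟩
  refine ⟨W, hclosed, fun z hz => hz, ?_⟩
  -- the triviality over `W`
  let ql := q ∣_ W
  let s : Z ⟶ pullback π pZ := σ ≫ u ≫ e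
  have hs : s ≫ q = 𝟙 Z := by
    rw [Category.assoc, Category.assoc, he2, ← Category.assoc u, hu1, Category.id_comp, hσ]
  have hsle : W ≤ s ⁻¹ᵁ (q ⁻¹ᵁ W) := by rw [← Scheme.Hom.comp_preimage, hs]; exact le_rfl
  let sl : (W : Scheme.{u}) ⟶ (q ⁻¹ᵁ W : (pullback π pZ).Opens) := s.resLE _ _ hsle
  refine SeesawGlobal.triv_of_section (f := ql)
    (fun V => univPush_of_geometricallyIntegral q W.ι ql (q ⁻¹ᵁ W).ι (isPullback_morphismRestrict q W).flip V)
    sl ?_ ?_ fun w => ?_
  · rw [← cancel_mono W.ι, Category.assoc, morphismRestrict_ι, ← Category.assoc, Scheme.Hom.resLE_comp_ι,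
      Category.assoc, hs, Category.comp_id, Category.id_comp]
  · refine (triv_comp_iff _ _).2 (SeesawGlobal.triv_of_factor (W.ι ≫ σ) ?_ ((triv_comp_iff _ _).1 hu))
    rw [Scheme.Hom.resLE_comp_ι, Category.assoc]
  · obtain ⟨U, hwU, hU⟩ := hopen (W.ι w) w.2
    let P := ql ⁻¹ᵁ (W.ι ⁻¹ᵁ U)
    have hP : Triv ((Scheme.Modules.pullback P.ι).obj ((Scheme.Modules.pullback (q ⁻¹ᵁ W).ι).obj L)) := by
      refine (triv_comp_iff _ _).2 (SeesawGlobal.triv_of_factor (IsOpenImmersion.lift (q ⁻¹ᵁ U).ι _ ?_)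
        (IsOpenImmersion.lift_fac _ _ _) hU)
      rw [Scheme.Opens.range_ι]
      rintro _ ⟨a, rfl⟩
      have h : (q ∣_ W ≫ W.ι) a.1 ∈ U := a.2
      rw [morphismRestrict_ι] at h
      exact h
    obtain ⟨t, ht⟩ := SeesawGlobal.exists_frame_of_triv _ hP
    exact ⟨W.ι ⁻¹ᵁ U, hwU, _, ht.res (Scheme.Opens.opensRange_ι P).ge⟩

theorem exists_clopen_triv (x : S ⟶ X) (hx : x ≫ pX = 𝟙 S) (y : S ⟶ Y) (hy : y ≫ pY = 𝟙 S)
    (L : (pullback (pullback.fst pX pY ≫ pX) pZ).Modules) (hL : PicF.IsInvertible L)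
    (l₁ : Y ⟶ pullback pX pY) (hl₁ : l₁ ≫ pullback.fst pX pY = pY ≫ x) (hl₁' : l₁ ≫ pullback.snd pX pY = 𝟙 Y)
    (l₂ : X ⟶ pullback pX pY) (hl₂ : l₂ ≫ pullback.fst pX pY = 𝟙 X) (hl₂' : l₂ ≫ pullback.snd pX pY = pX ≫ y)
    (m₁ : pullback (l₁ ≫ pullback.fst pX pY ≫ pX) pZ ⟶ pullback (pullback.fst pX pY ≫ pX) pZ)
    (hm₁ : m₁ ≫ pullback.fst _ _ = pullback.fst _ _ ≫ l₁) (hm₁' : m₁ ≫ pullback.snd _ _ = pullback.snd _ _)
    (m₂ : pullback (l₂ ≫ pullback.fst pX pY ≫ pX) pZ ⟶ pullback (pullback.fst pX pY ≫ pX) pZ)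
    (hm₂ : m₂ ≫ pullback.fst _ _ = pullback.fst _ _ ≫ l₂) (hm₂' : m₂ ≫ pullback.snd _ _ = pullback.snd _ _)
    (h₁ : Triv ((Scheme.Modules.pullback m₁).obj L)) (h₂ : Triv ((Scheme.Modules.pullback m₂).obj L))
    (z : Z) (h₃ : Triv ((Scheme.Modules.pullback ((pullback.snd (pullback.fst pX pY ≫ pX) pZ).fiberι z)).obj L)) :
    ∃ W : Z.Opens, IsClosed (W : Set Z) ∧ z ∈ W ∧
      Triv ((Scheme.Modules.pullback (pullback.snd (pullback.fst pX pY ≫ pX) pZ ⁻¹ᵁ W).ι).obj L) := by
  obtain ⟨W, hW, hz, hT⟩ := exists_clopen_triv_fibres pX pY pZ x hx y hy L hL l₁ hl₁ hl₁' l₂ hl₂ hl₂'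
    m₁ hm₁ hm₁' m₂ hm₂ hm₂' h₁ h₂
  exact ⟨W, hW, hz z h₃, hT⟩

end Groth.Agent.CubeX17
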