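import Groth.Agent.CubeX17.Socle
import Groth.Agent.SeesawX.Crit
import Mathlib.AlgebraicGeometry.Morphisms.Immersion
import Mathlib.RingTheory.FinitePresentation

/-!
# The theorem of the cube near a fibre
-/

set_option autoImplicit false
set_option linter.style.haveILetI false
set_option linter.unusedSectionVars false
set_option backward.isDefEq.respectTransparency false
set_option backward.isDefEq.respectTransparency.types false

universe u

open CategoryTheory CategoryTheory.Limits AlgebraicGeometry TopologicalSpace Opposite IsLocalRing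

namespace Groth.Agent.CubeX17

open Groth.Agent.H23 Groth.Agent.H23.TrivBasic

theorem univPush_baseChange {X S X' S' : Scheme.{u}} {f : X ⟶ S} (hf : SeesawX.UnivPush f) {a : S' ⟶ S}
    {q : X' ⟶ X} {f' : X' ⟶ S'} (h : IsPullback q f' f a) : SeesawX.UnivPush f' :=
  fun T XT t fT gT hT W => hf (t ≫ a) fT (gT ≫ q) (hT.paste_horiz h) W

theorem app_bijective_congr {X Y : Scheme.{u}} {a b : X ⟶ Y} (h : a = b) {W : Y.Opens}
    (ha : Function.Bijective (a.app W)) : Function.Bijective (b.app W) := h ▸ ha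

theorem app_surjective_congr {X Y : Scheme.{u}} {a b : X ⟶ Y} (h : a = b) {W : Y.Opens}
    (ha : Function.Surjective (a.app W)) : Function.Surjective (b.app W) := h ▸ ha

theorem univPush_comp {X Y S : Scheme.{u}} {a : X ⟶ Y} {b : Y ⟶ S} (ha : SeesawX.UnivPush a)
    (hb : SeesawX.UnivPush b) : SeesawX.UnivPush (a ≫ b) := by
  intro T XT t fT gT h W
  let c : XT ⟶ pullback b t := pullback.lift (gT ≫ a) fT (by rw [Category.assoc]; exact h.w)
  have hc1 : c ≫ pullback.fst b t = gT ≫ a := pullback.lift_fst _ _ _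
  have hc2 : c ≫ pullback.snd b t = fT := pullback.lift_snd _ _ _
  have hsq : IsPullback gT c a (pullback.fst b t) :=
    IsPullback.of_bot (by rw [hc2]; exact h) hc1.symm (IsPullback.of_hasPullback b t)
  have key : Function.Bijective ((c ≫ pullback.snd b t).app W) := by
    rw [Scheme.Hom.comp_app]
    exact (ha (pullback.fst b t) c gT hsq _).comp (hb t _ _ (IsPullback.of_hasPullback b t) W)
  exact app_bijective_congr hc2 key

/-- An invertible module on the spectrum of a local ring is trivial. -/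
theorem triv_of_isLocalRing {R : Type u} [CommRing R] [IsLocalRing R] {M : (Spec (CommRingCat.of R)).Modules}
    (hM : FlatMod.IsFinLocFreeOfRank 1 M) : Triv M := by
  obtain ⟨U, hU, ⟨e⟩⟩ := SeesawX.isInvertible_of_rank_one hM (closedPoint R)
  have hUtop : U = ⊤ := eq_top_iff.2 fun x _ => (IsLocalRing.specializes_closedPoint x).mem_open U.isOpen hU
  subst hUtop
  haveI : IsIso (⊤ : (Spec (CommRingCat.of R)).Opens).ι := inferInstanceAs (IsIso (Scheme.topIso _).hom)
  exact triv_of_isIso (⊤ : (Spec (CommRingCat.of R)).Opens).ι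
    (Triv.of_iso ((Scheme.Modules.restrictFunctorIsoPullback _).app M) ⟨e⟩)

theorem rank_one_structureModule (X : Scheme.{u}) : FlatMod.IsFinLocFreeOfRank 1 (Coh.structureModule X) :=
  SeesawX.isFinLocFreeOfRank_one (Triv.isInvertible ⟨Iso.refl _⟩)

/-- Ring maps killing the ideal of a closed piece give points of it. -/
theorem exists_factor_iff {Z S : Scheme.{u}} (ι : Z ⟶ S) {V : S.Opens} (hV : IsAffineOpen V)
    (hW : IsAffineOpen (ι ⁻¹ᵁ V)) (hsur : Function.Surjective (ι.app V)) {R : Type u} [CommRing R]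
    (φ : Γ(S, V) ⟶ CommRingCat.of R) :
    (∃ l : Spec (CommRingCat.of R) ⟶ Z, l ≫ ι = Spec.map φ ≫ hV.fromSpec) ↔
      RingHom.ker (ι.app V).hom ≤ RingHom.ker φ.hom := by
  have hsp : hW.fromSpec ≫ ι = Spec.map (ι.app V) ≫ hV.fromSpec := by
    rw [← hV.SpecMap_appLE_fromSpec ι hW le_rfl, Scheme.Hom.appLE_eq_app]
  constructor
  · rintro ⟨l, hl⟩
    have hr : Set.range l ⊆ Set.range hW.fromSpec := by
      rw [hW.range_fromSpec]
      rintro _ ⟨z, rfl⟩
      show ι (l z) ∈ V
      rw [← Scheme.Hom.comp_apply, hl, Scheme.Hom.comp_apply]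
      exact (Set.ext_iff.1 hV.range_fromSpec _).1 ⟨_, rfl⟩
    obtain ⟨χ, hχ⟩ := Spec.map_surjective (IsOpenImmersion.lift hW.fromSpec l hr)
    have hφ : φ = ι.app V ≫ χ := by
      refine Spec.map_injective ?_
      rw [← cancel_mono hV.fromSpec, Spec.map_comp, Category.assoc, ← hsp, ← Category.assoc, hχ,
        IsOpenImmersion.lift_fac, hl]
    intro x hx
    rw [RingHom.mem_ker] at hx ⊢
    rw [hφ, CommRingCat.hom_comp, RingHom.comp_apply, hx, map_zero]
  · intro h
    let χ := RingHom.liftOfSurjective (ι.app V).hom hsur ⟨φ.hom, h⟩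
    refine ⟨Spec.map (CommRingCat.ofHom χ) ≫ hW.fromSpec, ?_⟩
    rw [Category.assoc, hsp, ← Category.assoc, ← Spec.map_comp]
    congr 2
    refine CommRingCat.hom_ext (RingHom.ext fun x => ?_)
    exact RingHom.liftOfSurjective_comp_apply _ hsur _ x

/-- A nonzero finitely generated ideal of a local ring has a socle quotient. -/
theorem exists_socle {A : Type u} [CommRing A] [IsLocalRing A] {I : Ideal A} (hfg : I.FG) (hne : I ≠ ⊥) :
    ∃ (J : Ideal A) (a : A), a ∈ I ∧ a ∉ J ∧ I ≤ J ⊔ Ideal.span {a} ∧ J ≤ I ∧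
      ∀ b ∈ maximalIdeal A, b * a ∈ J := by
  haveI : Module.Finite A I := Module.Finite.iff_fg.2 hfg
  haveI : Nontrivial I := Submodule.nontrivial_iff_ne_bot.2 hne
  obtain ⟨N, hN, -⟩ := (eq_top_or_exists_le_coatom (⊥ : Submodule A I)).resolve_left bot_ne_top
  obtain ⟨x, hx⟩ : ∃ x : I, x ∉ N := by
    by_contra! h
    exact hN.1 (eq_top_iff.2 fun y _ => h y)
  have htop : ∀ y : I, y ∉ N → N ⊔ Submodule.span A {y} = ⊤ := fun y hy =>
    hN.2 _ (lt_of_le_of_ne le_sup_left fun h => hy (h ▸ Submodule.mem_sup_right (Submodule.mem_span_singleton_self y)))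
  refine ⟨N.map I.subtype, x, x.2, ?_, ?_, ?_, ?_⟩
  · rintro ⟨y, hy, hyx⟩
    exact hx (Subtype.ext hyx ▸ hy)
  · intro y hy
    obtain ⟨n, hn, z, hz, hnz⟩ := Submodule.mem_sup.1 (htop x hx ▸ Submodule.mem_top : (⟨y, hy⟩ : I) ∈ N ⊔ Submodule.span A {x})
    obtain ⟨c, rfl⟩ := Submodule.mem_span_singleton.1 hz
    exact Submodule.mem_sup.2 ⟨n, ⟨n, hn, rfl⟩, c * x, Ideal.mem_span_singleton'.2 ⟨c, rfl⟩, congrArg Subtype.val hnz⟩
  · rintro _ ⟨y, -, rfl⟩
    exact y.2
  · intro b hb
    by_contra h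
    have hbx : b • x ∉ N := fun hm => h ⟨_, hm, rfl⟩
    obtain ⟨n, hn, z, hz, hnz⟩ := Submodule.mem_sup.1 (htop _ hbx ▸ Submodule.mem_top : x ∈ N ⊔ Submodule.span A {b • x})
    obtain ⟨c, rfl⟩ := Submodule.mem_span_singleton.1 hz
    have hu : IsUnit (1 - c * b) := IsLocalRing.isUnit_one_sub_self_of_mem_nonunits _
      ((mem_maximalIdeal _).1 (Ideal.mul_mem_left _ c hb))
    have hn' : (1 - c * b) • x = n := by
      rw [sub_smul, one_smul, mul_smul, sub_eq_iff_eq_add, hnz]
    obtain ⟨w, hw⟩ := hu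
    refine hx ?_
    rw [show x = (↑w⁻¹ : A) • n by rw [← hn', ← hw, smul_smul, Units.inv_mul, one_smul]]
    exact N.smul_mem _ hn

variable {X Y S : Scheme.{u}} (f : X ⟶ S) (g : Y ⟶ S)
  [Flat f] [IsProper f] [LocallyOfFinitePresentation f] [Flat g] [IsProper g] [LocallyOfFinitePresentation g]

theorem exists_nhds_triv (hf : SeesawX.UnivPush f) (hg : SeesawX.UnivPush g)
    (σ : S ⟶ X) (hσ : σ ≫ f = 𝟙 S) (τ : S ⟶ Y) (hτ : τ ≫ g = 𝟙 S) (s : S)
    (L : (pullback f g).Modules) (hL : PicF.IsInvertible L)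
    (u : X ⟶ pullback f g) (hu1 : u ≫ pullback.fst f g = 𝟙 X) (hu2 : u ≫ pullback.snd f g = f ≫ τ)
    (v : Y ⟶ pullback f g) (hv1 : v ≫ pullback.fst f g = g ≫ σ) (hv2 : v ≫ pullback.snd f g = 𝟙 Y)
    (h1 : Triv ((Scheme.Modules.pullback u).obj L)) (h2 : Triv ((Scheme.Modules.pullback v).obj L))
    (h3 : Triv ((Scheme.Modules.pullback ((pullback.fst f g ≫ f).fiberι s)).obj L)) :
    ∃ U : S.Opens, s ∈ U ∧ Triv ((Scheme.Modules.pullback ((pullback.fst f g ≫ f) ⁻¹ᵁ U).ι).obj L) := by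
  classical
  let p := pullback.fst f g ≫ f
  haveI : IsProper p := inferInstanceAs (IsProper (pullback.fst f g ≫ f))
  haveI : Flat p := inferInstanceAs (Flat (pullback.fst f g ≫ f))
  haveI : LocallyOfFinitePresentation p := inferInstanceAs (LocallyOfFinitePresentation (pullback.fst f g ≫ f))
  have hu : SeesawX.UnivPush p :=
    univPush_comp (univPush_baseChange hg (IsPullback.of_hasPullback f g).flip) hf
  obtain ⟨Z, ι, hι, hιp, -, hZ⟩ := SeesawX.exists_seesaw hu (SeesawX.isFinLocFreeOfRank_one hL)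
    (H23.Seesaw.isFlatOver_of_isInvertible p hL)
  -- the point lies on the subscheme
  obtain ⟨l₀, hl₀⟩ := (hZ (S.fromSpecResidueField s) (p.fiberToSpecResidueField s) (p.fiberι s)
    (IsPullback.of_hasPullback p (S.fromSpecResidueField s))).2
    ⟨Coh.structureModule _, rank_one_structureModule _,
      ⟨h3.some ≪≫ (PicClLib.nonempty_pullback_structureModule _).some.symm⟩⟩
  have hsZ : ι (l₀ (closedPoint (S.residueField s))) = s := by
    rw [← Scheme.Hom.comp_apply, hl₀]
    have : S.fromSpecResidueField s (closedPoint (S.residueField s)) ∈ Set.range (S.fromSpecResidueField s) := ⟨_, rfl⟩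
    rw [Scheme.range_fromSpecResidueField] at this
    exact this
  let z := l₀ (closedPoint (S.residueField s))
  -- an affine chart in which it is closed
  have hscb : s ∈ ι.coborderRange := by
    have h : (ι.liftCoborder ≫ ι.coborderRange.ι) z = ι z := by rw [ι.liftCoborder_ι]
    rw [← hsZ]
    show ι z ∈ ι.coborderRange
    rw [← h, Scheme.Hom.comp_apply]
    exact (ι.liftCoborder z).2
  obtain ⟨_, ⟨V, hV, rfl⟩, hsV, hVle⟩ :=
    S.isBasis_affineOpens.exists_subset_of_mem_open hscb ι.coborderRange.2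
  have hV : IsAffineOpen V := hV
  let Vc := ι.coborderRange.ι ⁻¹ᵁ V
  have hVc : IsAffineOpen Vc := by
    refine (ι.coborderRange.ι.isAffineOpen_iff_of_isOpenImmersion).1 ?_
    rwa [Scheme.Hom.image_preimage_eq_opensRange_inf, Scheme.Opens.opensRange_ι, inf_eq_right.2 (show V ≤ ι.coborderRange from hVle)]
  have hpre : ι.liftCoborder ⁻¹ᵁ Vc = ι ⁻¹ᵁ V := by
    rw [← Scheme.Hom.comp_preimage, ι.liftCoborder_ι]
  have hW : IsAffineOpen (ι ⁻¹ᵁ V) := hpre ▸ hVc.preimage ι.liftCoborder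
  have hsur : Function.Surjective (ι.app V) := by
    have h1 := ι.liftCoborder.app_surjective Vc hVc
    have h2 : Function.Surjective (ι.coborderRange.ι.app V) := by
      haveI : IsIso (ι.coborderRange.ι.app V) := ι.coborderRange.ι.isIso_app V
        (by rw [Scheme.Opens.opensRange_ι]; exact hVle)
      exact (ConcreteCategory.bijective_of_isIso _).2
    refine app_surjective_congr ι.liftCoborder_ι ?_
    rw [Scheme.Hom.comp_app]
    exact h1.comp h2
  let I := RingHom.ker (ι.app V).hom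
  have hIfg : I.FG := by
    have hfp : (ι.app V).hom.FinitePresentation := by
      have := ι.finitePresentation_appLE hV hW le_rfl
      rwa [Scheme.Hom.appLE_eq_app] at this
    algebraize [(ι.app V).hom]
    exact Algebra.FinitePresentation.ker_fG_of_surjective (Algebra.ofId Γ(S, V) Γ(Z, ι ⁻¹ᵁ V)) hsur
  -- at the local ring
  let 𝔭 := (hV.primeIdealOf ⟨s, hsV⟩).asIdeal
  let A := Localization.AtPrime 𝔭
  let ψ : Γ(S, V) →+* A := algebraMap _ A
  have hImax : I.map ψ ≤ maximalIdeal A := by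
    rw [Ideal.map_le_iff_le_comap,
      show (maximalIdeal A).comap ψ = 𝔭 from IsLocalization.AtPrime.under_maximalIdeal A 𝔭]
    intro x hx
    by_contra hx'
    have hsx : s ∈ S.basicOpen x := by
      have h : hV.fromSpec (hV.primeIdealOf ⟨s, hsV⟩) = s := hV.fromSpec_primeIdealOf ⟨s, hsV⟩
      rw [← h]
      have : hV.primeIdealOf ⟨s, hsV⟩ ∈ hV.fromSpec ⁻¹ᵁ S.basicOpen x := by
        rw [hV.fromSpec_preimage_basicOpen]; exact hx'
      exact this
    have hzx : z ∈ ι ⁻¹ᵁ S.basicOpen x := show ι z ∈ S.basicOpen x from hsZ.symm ▸ hsx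
    rw [Scheme.preimage_basicOpen, show ι.app V x = 0 from hx, Scheme.basicOpen_zero] at hzx
    exact hzx
  have hI0 : I.map ψ = ⊥ := by
    by_contra hne
    obtain ⟨J, a, haI, haJ, hIJ, hJI, hma⟩ := exists_socle (hIfg.map ψ) hne
    have hJtop : J ≠ ⊤ := fun h => haJ (h ▸ Submodule.mem_top)
    haveI : Nontrivial (A ⧸ J) := Ideal.Quotient.nontrivial_iff.2 hJtop
    haveI : IsLocalRing (A ⧸ J) := IsLocalRing.of_surjective' (Ideal.Quotient.mk J) Ideal.Quotient.mk_surjective
    let j : A ⧸ J := Ideal.Quotient.mk J a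
    have hj0 : j ≠ 0 := fun h => haJ (Ideal.Quotient.eq_zero_iff_mem.1 h)
    haveI : IsLocalHom (Ideal.Quotient.mk J) := .of_surjective _ Ideal.Quotient.mk_surjective
    have hjm : j ∈ maximalIdeal (A ⧸ J) := by
      rw [mem_maximalIdeal, mem_nonunits_iff]
      exact fun h => (mem_maximalIdeal _).1 (hImax haI) (isUnit_of_map_unit (Ideal.Quotient.mk J) a h)
    have hmj : ∀ b ∈ maximalIdeal (A ⧸ J), b * j = 0 := fun b hb => by
      obtain ⟨b, rfl⟩ := Ideal.Quotient.mk_surjective b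
      rw [← map_mul, Ideal.Quotient.eq_zero_iff_mem]
      refine hma b ((mem_maximalIdeal _).2 fun h => (mem_maximalIdeal _).1 hb (h.map _))
    let φ : Γ(S, V) ⟶ CommRingCat.of (A ⧸ J) := CommRingCat.ofHom ((Ideal.Quotient.mk J).comp ψ)
    let t := Spec.map φ ≫ hV.fromSpec
    let s₀ := Spec.map (CommRingCat.ofHom (Ideal.Quotient.mk (Ideal.span {j})))
    let fT := pullback.snd f t
    let gT := pullback.snd g t
    let m : pullback fT gT ⟶ pullback f g := pullback.map fT gT f g (pullback.fst f t) (pullback.fst g t) t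
      pullback.condition.symm pullback.condition.symm
    have hm1 : m ≫ pullback.fst f g = pullback.fst fT gT ≫ pullback.fst f t := pullback.lift_fst _ _ _
    have hm2 : m ≫ pullback.snd f g = pullback.snd fT gT ≫ pullback.fst g t := pullback.lift_snd _ _ _
    have hmT : IsPullback m (pullback.fst fT gT ≫ fT) p t := by
      have hb : IsPullback (pullback.snd fT gT ≫ pullback.fst g t) (pullback.fst fT gT) g
          (pullback.fst f t ≫ f) := by
        have := (IsPullback.of_hasPullback fT gT).flip.paste_horiz (IsPullback.of_hasPullback g t)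
        rw [(IsPullback.of_hasPullback f t).w]
        exact this
      have h : IsPullback m (pullback.fst fT gT) (pullback.fst f g) (pullback.fst f t) :=
        IsPullback.of_right (h₁₂ := pullback.snd f g) (h₂₂ := f) (by rw [hm2]; exact hb) hm1
          (IsPullback.of_hasPullback f g).flip
      exact h.paste_vert (IsPullback.of_hasPullback f t)
    -- over the smaller base
    let φ₀ : Γ(S, V) ⟶ CommRingCat.of ((A ⧸ J) ⧸ Ideal.span {j}) :=
      φ ≫ CommRingCat.ofHom (Ideal.Quotient.mk (Ideal.span {j}))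
    obtain ⟨l₁, hl₁⟩ := (exists_factor_iff ι hV hW hsur φ₀).2 fun x hx => by
      show Ideal.Quotient.mk (Ideal.span {j}) (Ideal.Quotient.mk J (ψ x)) = 0
      rw [Ideal.Quotient.eq_zero_iff_mem]
      obtain ⟨y, hy, z, hz, hyz⟩ := Submodule.mem_sup.1 (hIJ (Ideal.mem_map_of_mem ψ hx))
      obtain ⟨c, rfl⟩ := Ideal.mem_span_singleton'.1 hz
      rw [← hyz, map_add, Ideal.Quotient.eq_zero_iff_mem.2 hy, zero_add, map_mul]
      exact Ideal.mul_mem_left _ _ (Ideal.mem_span_singleton_self _)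
    have hl₁' : l₁ ≫ ι = s₀ ≫ t := by
      rw [hl₁, Spec.map_comp, Category.assoc]
    haveI : Nontrivial ((A ⧸ J) ⧸ Ideal.span {j}) :=
      Ideal.Quotient.nontrivial_iff.2 fun h => (maximalIdeal.isMaximal (A ⧸ J)).ne_top
        (top_le_iff.1 (h.ge.trans ((Ideal.span_singleton_le_iff_mem _).2 hjm)))
    haveI : IsLocalRing ((A ⧸ J) ⧸ Ideal.span {j}) :=
      IsLocalRing.of_surjective' (Ideal.Quotient.mk (Ideal.span {j})) Ideal.Quotient.mk_surjective
    obtain ⟨M₀, hM₀, ⟨e₀⟩⟩ := (hZ (s₀ ≫ t) _ _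
      ((IsPullback.of_hasPullback (pullback.fst fT gT ≫ fT) s₀).paste_horiz hmT)).1 ⟨l₁, hl₁'⟩
    have h0 : Triv ((Scheme.Modules.pullback (pullback.fst (pullback.fst fT gT ≫ fT) s₀)).obj
        ((Scheme.Modules.pullback m).obj L)) :=
      (triv_comp_iff _ _).2 (Triv.of_iso e₀.symm ((triv_of_isLocalRing hM₀).pullback _))
    let σT : Spec (CommRingCat.of (A ⧸ J)) ⟶ pullback f t :=
      pullback.lift (t ≫ σ) (𝟙 _) (by rw [Category.assoc, hσ, Category.comp_id, Category.id_comp])
    let τT : Spec (CommRingCat.of (A ⧸ J)) ⟶ pullback g t :=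
      pullback.lift (t ≫ τ) (𝟙 _) (by rw [Category.assoc, hτ, Category.comp_id, Category.id_comp])
    have hσT : σT ≫ fT = 𝟙 _ := pullback.lift_snd _ _ _
    have hτT : τT ≫ gT = 𝟙 _ := pullback.lift_snd _ _ _
    have hσT1 : σT ≫ pullback.fst f t = t ≫ σ := pullback.lift_fst _ _ _
    have hτT1 : τT ≫ pullback.fst g t = t ≫ τ := pullback.lift_fst _ _ _
    let uT : pullback f t ⟶ pullback fT gT := pullback.lift (𝟙 _) (fT ≫ τT)
      (by rw [Category.id_comp, Category.assoc, hτT, Category.comp_id])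
    let vT : pullback g t ⟶ pullback fT gT := pullback.lift (gT ≫ σT) (𝟙 _)
      (by rw [Category.id_comp, Category.assoc, hσT, Category.comp_id])
    have hum : pullback.fst f t ≫ u = uT ≫ m := by
      apply pullback.hom_ext
      · rw [Category.assoc, Category.assoc, hu1, hm1, ← Category.assoc uT, pullback.lift_fst, Category.comp_id,
          Category.id_comp]
      · rw [Category.assoc, Category.assoc, hu2, hm2, ← Category.assoc uT, pullback.lift_snd, Category.assoc, hτT1,
          ← Category.assoc, pullback.condition, Category.assoc]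
    have hvm : pullback.fst g t ≫ v = vT ≫ m := by
      apply pullback.hom_ext
      · rw [Category.assoc, Category.assoc, hv1, hm1, ← Category.assoc vT, pullback.lift_fst, Category.assoc, hσT1,
          ← Category.assoc, pullback.condition, Category.assoc]
      · rw [Category.assoc, Category.assoc, hv2, hm2, ← Category.assoc vT, pullback.lift_snd, Category.comp_id,
          Category.id_comp]
    have hT := triv_of_socle hj0 hjm hmj fT gT (univPush_baseChange hf (IsPullback.of_hasPullback f t))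
      (univPush_baseChange hg (IsPullback.of_hasPullback g t)) σT hσT τT hτT _
      (PicClLib.isInvertible_pullback m hL) uT (pullback.lift_fst _ _ _) (pullback.lift_snd _ _ _)
      vT (pullback.lift_fst _ _ _) (pullback.lift_snd _ _ _)
      ((triv_comp_iff _ _).2 (SeesawGlobal.triv_of_factor _ hum h1))
      ((triv_comp_iff _ _).2 (SeesawGlobal.triv_of_factor _ hvm h2)) h0
    obtain ⟨l₂, hl₂⟩ := (hZ t _ _ hmT).2 ⟨Coh.structureModule _, rank_one_structureModule _,
      ⟨hT.some ≪≫ (PicClLib.nonempty_pullback_structureModule _).some.symm⟩⟩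
    have hker := (exists_factor_iff ι hV hW hsur φ).1 ⟨l₂, hl₂⟩
    refine haJ ?_
    have : I.map ψ ≤ J := Ideal.map_le_iff_le_comap.2 fun x hx =>
      show ψ x ∈ J from Ideal.Quotient.eq_zero_iff_mem.1 (hker hx)
    exact this haI
  -- so it is open near the point
  obtain ⟨r, hr, hrI⟩ : ∃ r ∉ 𝔭, ∀ x ∈ I, r * x = 0 := by
    obtain ⟨T, hT⟩ := hIfg
    have hx : ∀ x ∈ T, ∃ r : 𝔭.primeCompl, (r : Γ(S, V)) * x = 0 := fun x hx => by
      have : ψ x ∈ (⊥ : Ideal A) := hI0 ▸ Ideal.mem_map_of_mem ψ (hT ▸ Ideal.subset_span hx)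
      rw [Ideal.mem_bot] at this
      exact (IsLocalization.map_eq_zero_iff 𝔭.primeCompl A x).1 this
    choose r hr using hx
    refine ⟨∏ x : T, (r x.1 x.2 : Γ(S, V)), fun h => ?_, fun y hy => ?_⟩
    · obtain ⟨x, -, hx⟩ := (Ideal.IsPrime.prod_mem_iff).1 h
      exact (r x.1 x.2).2 hx
    · rw [← hT] at hy
      induction hy using Submodule.span_induction with
      | mem x hx =>
        obtain ⟨c, hc⟩ := Finset.dvd_prod_of_mem (fun x : T => (r x.1 x.2 : Γ(S, V))) (Finset.mem_univ ⟨x, hx⟩)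
        rw [hc, mul_right_comm, hr x hx, zero_mul]
      | zero => rw [mul_zero]
      | add a b _ _ ha hb => rw [mul_add, ha, hb, add_zero]
      | smul c a _ ha => rw [smul_eq_mul, mul_left_comm, ha, mul_zero]
  let D := S.basicOpen r
  have hD : IsAffineOpen D := hV.basicOpen r
  let res : Γ(S, V) ⟶ Γ(S, D) := S.presheaf.map (homOfLE (S.basicOpen_le r)).op
  obtain ⟨l₃, hl₃⟩ := (exists_factor_iff ι hV hW hsur (R := Γ(S, D)) res).2 fun x hx => by
    have hru : IsUnit (res r) := RingedSpace.isUnit_res_basicOpen S.toRingedSpace r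
    refine (hru.mul_right_eq_zero).1 ?_
    exact (map_mul res.hom r x).symm.trans (by rw [hrI x hx, map_zero])
  have hfsD : Spec.map res ≫ hV.fromSpec = hD.fromSpec := hV.map_fromSpec hD _
  obtain ⟨M, hM, ⟨e⟩⟩ := (hZ hD.fromSpec _ _ (IsPullback.of_hasPullback p hD.fromSpec)).1
    ⟨l₃, hl₃.trans hfsD⟩
  have hsD : s ∈ D := by
    have h : hV.fromSpec (hV.primeIdealOf ⟨s, hsV⟩) = s := hV.fromSpec_primeIdealOf ⟨s, hsV⟩
    have : hV.primeIdealOf ⟨s, hsV⟩ ∈ hV.fromSpec ⁻¹ᵁ D := by
      rw [hV.fromSpec_preimage_basicOpen]; exact hr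
    exact h ▸ (show hV.fromSpec (hV.primeIdealOf ⟨s, hsV⟩) ∈ D from this)
  obtain ⟨x, hx⟩ : s ∈ Set.range hD.fromSpec := by rw [hD.range_fromSpec]; exact hsD
  obtain ⟨U₁, hxU, ⟨eU⟩⟩ := SeesawX.isInvertible_of_rank_one hM x
  refine ⟨hD.fromSpec ''ᵁ U₁, ⟨x, hxU, hx⟩, ?_⟩
  let P := pullback p hD.fromSpec
  let P₁ := pullback.snd p hD.fromSpec ⁻¹ᵁ U₁
  have hMU : Triv ((Scheme.Modules.pullback U₁.ι).obj M) :=
    Triv.of_iso ((Scheme.Modules.restrictFunctorIsoPullback _).app M) ⟨eU⟩
  have hP : Triv ((Scheme.Modules.pullback (P₁.ι ≫ pullback.fst p hD.fromSpec)).obj L) := by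
    refine (triv_comp_iff _ _).1 (Triv.of_iso ((Scheme.Modules.pullback P₁.ι).mapIso e).symm ?_)
    refine (triv_comp_iff _ _).2 ((triv_congr (morphismRestrict_ι _ U₁)).1 ?_)
    exact (triv_comp_iff _ _).1 (hMU.pullback _)
  have hr' : Set.range (p ⁻¹ᵁ (hD.fromSpec ''ᵁ U₁)).ι ⊆ Set.range (P₁.ι ≫ pullback.fst p hD.fromSpec) := by
    rw [Scheme.Opens.range_ι]
    rintro w ⟨y, hy, hyw⟩
    obtain ⟨q, hq1, hq2⟩ := Scheme.Pullback.exists_preimage_pullback (f := p) (g := hD.fromSpec) w y hyw.symm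
    exact ⟨⟨q, show pullback.snd p hD.fromSpec q ∈ U₁ from hq2.symm ▸ hy⟩, hq1⟩
  exact SeesawGlobal.triv_of_factor (IsOpenImmersion.lift (P₁.ι ≫ pullback.fst p hD.fromSpec) _ hr')
    (IsOpenImmersion.lift_fac _ _ _) hP

end Groth.Agent.CubeX17
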