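import Groth.Agent.CubeX17.Flat
import Groth.Agent.H23.InfArtin
import Groth.Agent.SeesawX.Main

/-!
# The cube over a local ring along a socle element
-/

set_option autoImplicit false
set_option linter.style.haveILetI false
set_option linter.unusedSectionVars false
set_option backward.isDefEq.respectTransparency false
set_option backward.isDefEq.respectTransparency.types false

universe u

open CategoryTheory CategoryTheory.Limits MonoidalCategory CartesianMonoidalCategory AlgebraicGeometry
  TopologicalSpace Opposite IsLocalRing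

namespace Groth.Agent.CubeX17

open Groth.Agent.AModX Groth.Agent.H23 Groth.Agent.H23.TrivBasic Groth.Agent.H23.KunnethH1 Groth.Agent.H23.ProdFun

theorem kills_congr {X : Scheme.{u}} {J : Type*} {B B' : J → X.Opens} (h : B = B') {N : Type}
    {Sl : N → Scheme.{u}} {τ : ∀ s, Sl s ⟶ X} (H : Kills B' τ) : Kills B τ := h ▸ H

theorem isAffine_separated {X : Scheme.{u}} {B : Type u} [CommRing B] (p : X ⟶ Spec (CommRingCat.of B))
    [IsSeparated p] : X.IsSeparated :=
  ⟨by rw [← Limits.terminal.comp_from p]; infer_instance⟩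

theorem appTop_bijective_of_univPush {X S : Scheme.{u}} {f : X ⟶ S} (hf : SeesawX.UnivPush f) {T : Scheme.{u}}
    (t : T ⟶ S) : Function.Bijective (pullback.snd f t).appTop :=
  hf t _ _ (IsPullback.of_hasPullback f t) ⊤

variable {A : Type u} [CommRing A] [IsLocalRing A] {X Y : Scheme.{u}}

theorem triv_of_socle {j : A} (hj0 : j ≠ 0) (hjm : j ∈ maximalIdeal A) (hmj : ∀ a ∈ maximalIdeal A, a * j = 0)
    (f : X ⟶ Spec (CommRingCat.of A)) (g : Y ⟶ Spec (CommRingCat.of A))
    [IsProper f] [Flat f] [IsProper g] [Flat g] (hf : SeesawX.UnivPush f) (hg : SeesawX.UnivPush g)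
    (σ : Spec (CommRingCat.of A) ⟶ X) (hσ : σ ≫ f = 𝟙 _)
    (τ : Spec (CommRingCat.of A) ⟶ Y) (hτ : τ ≫ g = 𝟙 _)
    (L : (pullback f g).Modules) (hL : PicF.IsInvertible L)
    (u : X ⟶ pullback f g) (hu1 : u ≫ pullback.fst f g = 𝟙 X) (hu2 : u ≫ pullback.snd f g = f ≫ τ)
    (v : Y ⟶ pullback f g) (hv1 : v ≫ pullback.fst f g = g ≫ σ) (hv2 : v ≫ pullback.snd f g = 𝟙 Y)
    (h1 : Triv ((Scheme.Modules.pullback u).obj L)) (h2 : Triv ((Scheme.Modules.pullback v).obj L))
    (h0 : Triv ((Scheme.Modules.pullback (pullback.fst (pullback.fst f g ≫ f)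
      (Spec.map (CommRingCat.ofHom (Ideal.Quotient.mk (Ideal.span {j})))))).obj L)) :
    Triv L := by
  classical
  let p := pullback.fst f g ≫ f
  let s₀ := Spec.map (CommRingCat.ofHom (Ideal.Quotient.mk (Ideal.span {j})))
  let k := ResidueField A
  let sk : Spec (CommRingCat.of k) ⟶ Spec (CommRingCat.of A) := Spec.map (CommRingCat.ofHom (residue A))
  haveI : IsClosedImmersion s₀ := IsClosedImmersion.spec_of_surjective _ Ideal.Quotient.mk_surjective
  haveI : IsClosedImmersion sk := IsClosedImmersion.spec_of_surjective _ residue_surjective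
  have hjj : j * j = 0 := hmj j hjm
  haveI : Surjective s₀ := ⟨fun (P : PrimeSpectrum A) => by
    have hr : P ∈ Set.range (PrimeSpectrum.comap (Ideal.Quotient.mk (Ideal.span {j}))) := by
      rw [range_comap_of_surjective _ _ Ideal.Quotient.mk_surjective, Ideal.mk_ker]
      exact (Ideal.span_singleton_le_iff_mem _).2 (P.isPrime.mem_of_pow_mem 2 (by rw [pow_two, hjj]; exact zero_mem _))
    exact hr⟩
  haveI : (pullback f g).IsSeparated := isAffine_separated p
  haveI : X.IsSeparated := isAffine_separated f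
  haveI : Y.IsSeparated := isAffine_separated g
  haveI : CompactSpace X := QuasiCompact.compactSpace_of_compactSpace f
  haveI : CompactSpace Y := QuasiCompact.compactSpace_of_compactSpace g
  -- the closed fibres
  let Xk : Over (Spec (CommRingCat.of k)) := Over.mk (pullback.snd f sk)
  let Yk : Over (Spec (CommRingCat.of k)) := Over.mk (pullback.snd g sk)
  haveI : IsProper Xk.hom := inferInstanceAs (IsProper (pullback.snd f sk))
  haveI : IsProper Yk.hom := inferInstanceAs (IsProper (pullback.snd g sk))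
  let aX : Xk.left ⟶ X := pullback.fst f sk
  let aY : Yk.left ⟶ Y := pullback.fst g sk
  let fk : (Xk ⊗ Yk).left ⟶ Xk.left := (CartesianMonoidalCategory.fst Xk Yk).left
  let gk : (Xk ⊗ Yk).left ⟶ Yk.left := (CartesianMonoidalCategory.snd Xk Yk).left
  have hk : IsPullback fk gk (pullback.snd f sk) (pullback.snd g sk) :=
    IsPullback.of_hasPullback Xk.hom Yk.hom
  have hXk : IsPullback aX (pullback.snd f sk) f sk := IsPullback.of_hasPullback f sk
  have hYk : IsPullback aY (pullback.snd g sk) g sk := IsPullback.of_hasPullback g sk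
  let ik : (Xk ⊗ Yk).left ⟶ pullback f g := pullback.lift (fk ≫ aX) (gk ≫ aY) (by
    rw [Category.assoc, Category.assoc, hXk.w, hYk.w, ← Category.assoc, hk.w, Category.assoc])
  have hik1 : ik ≫ pullback.fst f g = fk ≫ aX := pullback.lift_fst _ _ _
  have hik2 : ik ≫ pullback.snd f g = gk ≫ aY := pullback.lift_snd _ _ _
  have hsq : IsPullback ik fk (pullback.fst f g) aX := by
    have hb : IsPullback (gk ≫ aY) fk g (aX ≫ f) := by
      have := (hk.flip.paste_horiz hYk)
      rw [hXk.w]
      exact this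
    refine IsPullback.of_right (h₁₂ := pullback.snd f g) (h₂₂ := f) ?_ hik1 (IsPullback.of_hasPullback f g).flip
    rw [hik2]
    exact hb
  have hWk : IsPullback ik (fk ≫ pullback.snd f sk) p sk := hsq.paste_vert hXk
  haveI : IsClosedImmersion ik := MorphismProperty.of_isPullback hWk.flip inferInstance
  haveI : Flat p := inferInstanceAs (Flat (pullback.fst f g ≫ f))
  let Wj := jfun p j
  -- the covering by boxes
  obtain ⟨ι, _, U, hU, hUσ⟩ := QCoh.exists_affine_cover (X := X)
  obtain ⟨κ, _, O, hO, hOσ⟩ := QCoh.exists_affine_cover (X := Y)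
  have hU1 : ∀ i, IsAffineOpen (U i) := fun i => by simpa using hUσ (p := 0) fun _ => i
  have hO1 : ∀ j, IsAffineOpen (O j) := fun j => by simpa using hOσ (p := 0) fun _ => j
  have hcU : ∀ x : X, ∃ i, x ∈ U i := fun x => Opens.mem_iSup.1 (hU.symm ▸ trivial : x ∈ ⨆ i, U i)
  have hcO : ∀ x : Y, ∃ j, x ∈ O j := fun x => Opens.mem_iSup.1 (hO.symm ▸ trivial : x ∈ ⨆ j, O j)
  haveI : IsAffineHom aX := MorphismProperty.pullback_fst _ _ inferInstance
  haveI : IsAffineHom aY := MorphismProperty.pullback_fst _ _ inferInstance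
  -- the slices
  let xk : 𝟙_ (Over (Spec (CommRingCat.of k))) ⟶ Xk := Over.homMk
    (pullback.lift (sk ≫ σ) (𝟙 _) (by rw [Category.assoc, hσ, Category.comp_id, Category.id_comp]))
    (pullback.lift_snd _ _ _)
  let yk : 𝟙_ (Over (Spec (CommRingCat.of k))) ⟶ Yk := Over.homMk
    (pullback.lift (sk ≫ τ) (𝟙 _) (by rw [Category.assoc, hτ, Category.comp_id, Category.id_comp]))
    (pullback.lift_snd _ _ _)
  haveI hcu : IsClosedImmersion u := by
    haveI : IsIso (u ≫ pullback.fst f g) := by rw [hu1]; infer_instance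
    exact IsClosedImmersion.of_comp u (pullback.fst f g)
  haveI hcv : IsClosedImmersion v := by
    haveI : IsIso (v ≫ pullback.snd f g) := by rw [hv2]; infer_instance
    exact IsClosedImmersion.of_comp v (pullback.snd f g)
  have hup : u ≫ p = f := by rw [← Category.assoc, hu1, Category.id_comp]
  have hvp : v ≫ p = g := by rw [← Category.assoc, hv1, Category.assoc, hσ, Category.comp_id]
  let Sl : Bool → Scheme.{u} := fun b => match b with
    | true => Y
    | false => X
  let q : ∀ b, Sl b ⟶ Spec (CommRingCat.of A) := fun b => match b with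
    | true => g
    | false => f
  let sl : ∀ b, Sl b ⟶ pullback f g := fun b => match b with
    | true => v
    | false => u
  have hslp : ∀ b, sl b ≫ p = q b := by rintro (_ | _); exacts [hup, hvp]
  haveI : ∀ b, IsClosedImmersion (sl b) := by rintro (_ | _); exacts [hcu, hcv]
  haveI : ∀ b, Flat (q b) := by rintro (_ | _); exacts [inferInstanceAs (Flat f), inferInstanceAs (Flat g)]
  have hq : ∀ b, SeesawX.UnivPush (q b) := by rintro (_ | _); exacts [hf, hg]
  let Slk : Bool → Scheme.{u} := fun b => match b with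
    | true => Yk.left
    | false => Xk.left
  let ιk : ∀ b, Slk b ⟶ Sl b := fun b => match b with
    | true => aY
    | false => aX
  let τk : ∀ b, Slk b ⟶ (Xk ⊗ Yk).left := fun b => match b with
    | true => (CartesianMonoidalCategory.lift (toUnit Yk ≫ xk) (𝟙 Yk)).left
    | false => (CartesianMonoidalCategory.lift (𝟙 Xk) (toUnit Xk ≫ yk)).left
  have hsk : ∀ b, KerAnn (ιk b) ((sl b).appTop Wj) := fun b => by
    rw [appTop_jfun p _ (sl b) (hslp b)]
    rcases b with _ | _
    · exact kerAnn_of_isPullback f hj0 hmj residue_surjective ker_residue hXk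
    · exact kerAnn_of_isPullback g hj0 hmj residue_surjective ker_residue hYk
  have hτk : ∀ b, τk b ≫ ik = ιk b ≫ sl b := by
    have hxk : xk.left ≫ aX = sk ≫ σ := pullback.lift_fst _ _ _
    have hyk : yk.left ≫ aY = sk ≫ τ := pullback.lift_fst _ _ _
    have htX : (toUnit Xk).left = pullback.snd f sk := (Category.comp_id _).symm.trans (Over.w (toUnit Xk))
    have htY : (toUnit Yk).left = pullback.snd g sk := (Category.comp_id _).symm.trans (Over.w (toUnit Yk))
    rintro (_ | _) <;> apply pullback.hom_ext <;>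
      simp only [τk, ιk, sl, Category.assoc, hik1, hik2, hu1, hu2, hv1, hv2]
    · refine (Category.assoc _ _ _).symm.trans ?_
      rw [show _ ≫ fk = 𝟙 _ from congrArg Over.Hom.left (lift_fst (𝟙 Xk) (toUnit Xk ≫ yk))]
      exact (Category.id_comp _).trans (Category.comp_id _).symm
    · refine (Category.assoc _ _ _).symm.trans ?_
      rw [show _ ≫ gk = (toUnit Xk).left ≫ yk.left from congrArg Over.Hom.left (lift_snd (𝟙 Xk) (toUnit Xk ≫ yk))]
      refine (Category.assoc _ _ _).trans ?_
      rw [htX, hyk]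
      exact ((congrArg (· ≫ τ) hXk.w).trans (Category.assoc _ _ _)).symm.trans (Category.assoc _ _ _)
    · refine (Category.assoc _ _ _).symm.trans ?_
      rw [show _ ≫ fk = (toUnit Yk).left ≫ xk.left from congrArg Over.Hom.left (lift_fst (toUnit Yk ≫ xk) (𝟙 Yk))]
      refine (Category.assoc _ _ _).trans ?_
      rw [htY, hxk]
      exact ((congrArg (· ≫ σ) hYk.w).trans (Category.assoc _ _ _)).symm.trans (Category.assoc _ _ _)
    · refine (Category.assoc _ _ _).symm.trans ?_
      rw [show _ ≫ gk = 𝟙 _ from congrArg Over.Hom.left (lift_snd (toUnit Yk ≫ xk) (𝟙 Yk))]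
      exact (Category.id_comp _).trans (Category.comp_id _).symm
  -- the thickenings
  let ι₀ : ∀ b, pullback (q b) s₀ ⟶ Sl b := fun b => pullback.fst (q b) s₀
  let τ₀ : ∀ b, pullback (q b) s₀ ⟶ pullback p s₀ := fun b =>
    pullback.map (q b) s₀ p s₀ (sl b) (𝟙 _) (𝟙 _) (by rw [Category.comp_id, hslp]) (by simp)
  have hs₀ : ∀ b, KerMul (ι₀ b) ((sl b).appTop Wj) := fun b => by
    rw [appTop_jfun p _ (sl b) (hslp b)]
    exact kerMul_of_isPullback (q b) Ideal.Quotient.mk_surjective Ideal.mk_ker (IsPullback.of_hasPullback (q b) s₀)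
  have hsur : ∀ b, Function.Surjective (ι₀ b).appTop := fun b => by
    have h := (appTop_bijective_of_univPush (hq b) s₀).surjective.comp
      (Scheme.Hom.app_surjective s₀ ⊤ (isAffineOpen_top _))
    intro z
    obtain ⟨a, ha⟩ := h z
    refine ⟨(q b).appTop a, ?_⟩
    rw [← ha, Function.comp_apply, ← ConcreteCategory.comp_apply, ← Scheme.Hom.comp_appTop, pullback.condition]
    rfl
  refine triv_step (pullback.fst p s₀) ik Wj (by show RigidInf.α p ⊤ j * RigidInf.α p ⊤ j = 0; rw [← map_mul, hjj, map_zero])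
    (kerMul_of_isPullback p Ideal.Quotient.mk_surjective Ideal.mk_ker (IsPullback.of_hasPullback p s₀))
    (kerAnn_of_isPullback p hj0 hmj residue_surjective ker_residue hWk)
    (fun a : ι × κ => pullback.fst f g ⁻¹ᵁ U a.1 ⊓ pullback.snd f g ⁻¹ᵁ O a.2)
    (fun a => Groth.Agent.S17858.isAffineOpen_inf_pullback f g (hU1 a.1) (hO1 a.2)
      (isAffineOpen_top _) le_top le_top)
    (fun z => ?_) sl ι₀ τ₀ (fun b => pullback.lift_fst _ _ _) ιk τk hτk hs₀ hsk hsur ?_ L hL h0 ?_
  · obtain ⟨i, hi⟩ := hcU (pullback.fst f g z)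
    obtain ⟨j, hj⟩ := hcO (pullback.snd f g z)
    exact ⟨(i, j), hi, hj⟩
  · refine kills_congr (B' := boxes (fun i => aX ⁻¹ᵁ U i) (fun i => aY ⁻¹ᵁ O i)) (funext fun a => ?_) fun c hc hs =>
      KunnethH1.isCobound_of_slices (fun i => aX ⁻¹ᵁ U i) (fun i => aY ⁻¹ᵁ O i)
        (fun x => hcU (aX x)) (fun x => hcO (aY x)) (fun i => (hU1 i).preimage aX) (fun i => (hO1 i).preimage aY)
        (appTop_bijective_of_univPush hf sk) (appTop_bijective_of_univPush hg sk) xk yk c hc (hs true) (hs false)
    rw [Scheme.Hom.preimage_inf, ← Scheme.Hom.comp_preimage, ← Scheme.Hom.comp_preimage, hik1, hik2]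
    rfl
  · rintro (_ | _)
    · exact h1
    · exact h2

end Groth.Agent.CubeX17
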