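import Groth.Agent.H23.InfLift

/-!
# Triviality of an invertible module along a principal square-zero thickening

`j` is a function with `j * j = 0`; `i₀` cuts out `(j)` and `ik` cuts out the annihilator of `j`.
-/

set_option autoImplicit false
set_option linter.style.haveILetI false
set_option linter.unusedSectionVars false
set_option backward.isDefEq.respectTransparency false
set_option backward.isDefEq.respectTransparency.types false

universe u

open CategoryTheory CategoryTheory.Limits AlgebraicGeometry TopologicalSpace Opposite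

namespace Groth.Agent.CubeX17

open Groth.Agent.AModX Groth.Agent.InvX Groth.Agent.H23.TrivBasic Groth.Agent.H23.InfLift
  Groth.Agent.H23.KunnethH1

variable {W X Y Z : Scheme.{u}}

/-- Pullback of functions. -/
noncomputable def pb (f : Y ⟶ X) {U : X.Opens} {V : Y.Opens} (e : V ≤ f ⁻¹ᵁ U) : Γ(X, U) →+* Γ(Y, V) :=
  (f.appLE U V e).hom

theorem pb_resR (f : Y ⟶ X) {U U' : X.Opens} {V : Y.Opens} (h : U' ≤ U) (e : V ≤ f ⁻¹ᵁ U') (x : Γ(X, U)) :
    pb f e (resR h x) = pb f (e.trans (f.preimage_mono h)) x :=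
  ConcreteCategory.congr_hom (f.map_appLE e (homOfLE h).op) x

theorem resR_pb (f : Y ⟶ X) {U : X.Opens} {V V' : Y.Opens} (e : V ≤ f ⁻¹ᵁ U) (h : V' ≤ V) (x : Γ(X, U)) :
    resR h (pb f e x) = pb f (h.trans e) x :=
  ConcreteCategory.congr_hom (f.appLE_map e (homOfLE h).op) x

theorem pb_pb (g : Z ⟶ Y) (f : Y ⟶ X) {U : X.Opens} {V : Y.Opens} {T : Z.Opens} (e : V ≤ f ⁻¹ᵁ U)
    (e' : T ≤ g ⁻¹ᵁ V) (x : Γ(X, U)) :
    pb g e' (pb f e x) = pb (g ≫ f) (e'.trans (g.preimage_mono e)) x :=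
  ConcreteCategory.congr_hom (g.appLE_comp_appLE f U V T e e') x

theorem pb_congr {f f' : Y ⟶ X} (h : f = f') {U : X.Opens} {V : Y.Opens} (e : V ≤ f ⁻¹ᵁ U) (e' : V ≤ f' ⁻¹ᵁ U)
    (x : Γ(X, U)) : pb f e x = pb f' e' x := by
  subst h; rfl

theorem pb_self (f : Y ⟶ X) (U : X.Opens) (x : Γ(X, U)) : pb f (le_refl (f ⁻¹ᵁ U)) x = f.app U x := by
  show f.appLE U _ _ x = _
  rw [Scheme.Hom.appLE_eq_app]

theorem app_resR (f : Y ⟶ X) {U U' : X.Opens} (h : U' ≤ U) (x : Γ(X, U)) :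
    f.app U' (resR h x) = resR (f.preimage_mono h) (f.app U x) := by
  rw [← pb_self, ← pb_self, pb_resR, resR_pb]

/-- `i` cuts out the multiples of `j`. -/
def KerMul (i : Y ⟶ X) (j : Γ(X, ⊤)) : Prop :=
  ∀ (U : X.Opens), IsAffineOpen U → ∀ x : Γ(X, U), i.app U x = 0 ↔ ∃ y : Γ(X, U), x = resR (le_top : U ≤ ⊤) j * y

/-- `i` cuts out the annihilator of `j`. -/
def KerAnn (i : Y ⟶ X) (j : Γ(X, ⊤)) : Prop :=
  ∀ (U : X.Opens), IsAffineOpen U → ∀ x : Γ(X, U), i.app U x = 0 ↔ resR (le_top : U ≤ ⊤) j * x = 0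

/-- A cocycle for `B` which is a coboundary on all the slices is a coboundary. -/
def Kills {J : Type*} (B : J → X.Opens) {N : Type} {Sl : N → Scheme.{u}} (τ : ∀ s, Sl s ⟶ X) : Prop :=
  ∀ c : ∀ a b, Γ(X, B a ⊓ B b), IsCocycle B c →
    (∀ s, IsCobound (fun a => τ s ⁻¹ᵁ B a) (pullC B (τ s) c)) → IsCobound B c

theorem eq_one_add {i : Y ⟶ X} {j : Γ(X, ⊤)} (h : KerMul i j) {U : X.Opens} (hU : IsAffineOpen U)
    {g : Γ(X, U)} (hg : i.app U g = 1) : ∃ y, g = 1 + resR le_top j * y := by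
  obtain ⟨y, hy⟩ := (h U hU (g - 1)).1 (by rw [map_sub, map_one, hg, sub_self])
  exact ⟨y, by rw [← hy, add_sub_cancel]⟩

theorem sq_zero_res {j : Γ(X, ⊤)} (hj : j * j = 0) (U : X.Opens) :
    resR (le_top : U ≤ ⊤) j * resR le_top j = 0 := by rw [← map_mul, hj, map_zero]

/-- A principal square-zero step. -/
theorem triv_step [W.IsSeparated] {W₀ Wk : Scheme.{u}} (i₀ : W₀ ⟶ W) [IsClosedImmersion i₀] [Surjective i₀]
    (ik : Wk ⟶ W) [IsClosedImmersion ik] (j : Γ(W, ⊤)) (hj : j * j = 0) (h₀ : KerMul i₀ j) (hk : KerAnn ik j)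
    {J : Type u} (B : J → W.Opens) (hB : ∀ a, IsAffineOpen (B a)) (hcov : ∀ x, ∃ a, x ∈ B a)
    {N : Type} {Sl Sl₀ Slk : N → Scheme.{u}} (σ : ∀ s, Sl s ⟶ W) [∀ s, IsClosedImmersion (σ s)]
    (ι₀ : ∀ s, Sl₀ s ⟶ Sl s) [∀ s, Surjective (ι₀ s)] (τ₀ : ∀ s, Sl₀ s ⟶ W₀) (hτ₀ : ∀ s, τ₀ s ≫ i₀ = ι₀ s ≫ σ s)
    (ιk : ∀ s, Slk s ⟶ Sl s) (τk : ∀ s, Slk s ⟶ Wk) (hτk : ∀ s, τk s ≫ ik = ιk s ≫ σ s)
    (hs₀ : ∀ s, KerMul (ι₀ s) ((σ s).appTop j)) (hsk : ∀ s, KerAnn (ιk s) ((σ s).appTop j))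
    (hsur : ∀ s, Function.Surjective (ι₀ s).appTop)
    (hH : Kills (fun a => ik ⁻¹ᵁ B a) τk)
    (L : W.Modules) (hL : PicF.IsInvertible L) (h' : Triv ((Scheme.Modules.pullback i₀).obj L))
    (hσ : ∀ s, Triv ((Scheme.Modules.pullback (σ s)).obj L)) : Triv L := by
  classical
  obtain ⟨e₀, he₀⟩ := h'.exists_frame
  have hframe : ∀ a, ∃ e : Γ(L, B a), IsFrame e ∧ pullElt i₀ e = AModX.res _ le_top e₀ := by
    intro a
    obtain ⟨e, he⟩ := exists_lift (ProjUPX.isQCoh_of_isInvertible hL) i₀ (hB a) (AModX.res _ le_top e₀)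
    exact ⟨e, isFrame_of_pullElt hL i₀ i₀.surjective e (he ▸ he₀.res le_top), he⟩
  choose e he hei using hframe
  have hBB : ∀ a b, IsAffineOpen (B a ⊓ B b) := fun a b => (hB a).inf (hB b)
  have hg := fun a b => (he a).exists_coord (inf_le_left : B a ⊓ B b ≤ B a)
    (AModX.res L (inf_le_right : B a ⊓ B b ≤ B b) (e b))
  choose g hg using hg
  have hg1 : ∀ a b, i₀.app _ (g a b) = 1 := by
    intro a b
    have h1 := congrArg (pullElt i₀) (hg a b)
    rw [pullElt_smul, ← res_pullElt i₀, ← res_pullElt i₀, hei, hei, AModX.res_res, AModX.res_res] at h1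
    refine he₀.coord_unique (le_top : i₀ ⁻¹ᵁ (B a ⊓ B b) ≤ ⊤) ?_
    rw [one_smul]
    exact h1.symm
  have hy := fun a b => eq_one_add h₀ (hBB a b) (hg1 a b)
  choose y hy using hy
  let C : ∀ a b, Γ(Wk, ik ⁻¹ᵁ B a ⊓ ik ⁻¹ᵁ B b) := fun a b => pb ik (le_of_eq (Scheme.Hom.preimage_inf ik).symm) (y a b)
  have hcoc : IsCocycle (fun a => ik ⁻¹ᵁ B a) C := by
    intro a b d V h₁ h₂ h₃
    let T := B a ⊓ B b ⊓ B d
    have hT : IsAffineOpen T := (hBB a b).inf (hB d)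
    have hab : T ≤ B a ⊓ B b := inf_le_left
    have hbd : T ≤ B b ⊓ B d := fun z hz => ⟨hz.1.2, hz.2⟩
    have had : T ≤ B a ⊓ B d := fun z hz => ⟨hz.1.1, hz.2⟩
    have h4 := congrArg (AModX.res L hbd) (hg b d)
    have h5 := congrArg (AModX.res L hab) (hg a b)
    have h6 := congrArg (AModX.res L had) (hg a d)
    rw [AModX.res_smul, AModX.res_res, AModX.res_res] at h4 h5 h6
    rw [h5, ← mul_smul, h6] at h4
    have hmul := (he a).coord_unique (hab.trans inf_le_left) h4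
    simp only [hy, map_add, map_one, map_mul, resR_resR] at hmul
    have h0 : resR (le_top : T ≤ ⊤) j * (resR hab (y a b) + resR hbd (y b d) - resR had (y a d)) = 0 := by
      linear_combination -hmul - resR hab (y a b) * resR hbd (y b d) * sq_zero_res hj T
    have hV : V ≤ ik ⁻¹ᵁ T := fun z hz => ⟨⟨(h₁ hz).1, (h₁ hz).2⟩, (h₂ hz).2⟩
    have h7 := congrArg (resR hV) ((hk T hT _).2 h0)
    rw [← pb_self, resR_pb, map_sub, map_add, pb_resR, pb_resR, pb_resR, map_zero, sub_eq_zero] at h7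
    simp only [C, resR_pb]
    exact h7
  have hsl : ∀ s, IsCobound (fun a => τk s ⁻¹ᵁ (ik ⁻¹ᵁ B a)) (pullC (fun a => ik ⁻¹ᵁ B a) (τk s) C) := by
    intro s
    obtain ⟨t, ht⟩ := (hσ s).exists_frame
    let B' := fun a => σ s ⁻¹ᵁ B a
    have hB' : ∀ a, IsAffineOpen (B' a) := fun a => (hB a).preimage (σ s)
    let jS := (σ s).appTop j
    have hjS : ∀ (U : W.Opens) (V : (Sl s).Opens) (h : V ≤ σ s ⁻¹ᵁ U),
        pb (σ s) h (resR le_top j) = resR le_top jS := fun U V h => by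
      refine (pb_resR (σ s) _ h j).trans ?_
      show pb (σ s) _ j = resR le_top ((σ s).app ⊤ j)
      rw [← pb_self]
      exact (resR_pb (σ s) _ _ j).symm
    have hv := fun a => ht.exists_coord (le_top : B' a ≤ ⊤) (pullElt (σ s) (e a))
    choose v hv using hv
    have hvu : ∀ a, IsUnit (v a) := fun a => by
      have hfr := isFrame_pullElt (σ s) (he a)
      obtain ⟨w, hw⟩ := hfr.exists_coord le_rfl (AModX.res _ (le_top : B' a ≤ ⊤) t)
      rw [AModX.res_self] at hw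
      refine IsUnit.of_mul_eq_one w ?_
      refine ht.coord_unique (le_top : B' a ≤ ⊤) ?_
      rw [one_smul, mul_comm, mul_smul, ← hv a, ← hw]
    have hpre : ∀ a b, B' a ⊓ B' b ≤ σ s ⁻¹ᵁ (B a ⊓ B b) := fun a b => le_of_eq (Scheme.Hom.preimage_inf (σ s)).symm
    have hrel : ∀ a b, resR (inf_le_right : B' a ⊓ B' b ≤ B' b) (v b) =
        pb (σ s) (hpre a b) (g a b) * resR (inf_le_left : B' a ⊓ B' b ≤ B' a) (v a) := by
      intro a b
      refine ht.coord_unique (le_top : B' a ⊓ B' b ≤ ⊤) ?_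
      have h1 := congrArg (AModX.res _ (hpre a b)) (congrArg (pullElt (σ s)) (hg a b))
      rw [pullElt_smul, AModX.res_smul, ← res_pullElt (σ s), ← res_pullElt (σ s), hv, hv, AModX.res_res,
        AModX.res_res, AModX.res_smul, AModX.res_smul, AModX.res_res, AModX.res_res] at h1
      rw [← pb_self, resR_pb] at h1
      rw [mul_smul]
      exact h1
    -- normalisation over `Sl₀`
    let u : ∀ a, Γ(Sl₀ s, ι₀ s ⁻¹ᵁ B' a) := fun a => (ι₀ s).app (B' a) (v a)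
    have hgs : ∀ a b (V : (Sl₀ s).Opens) (h : V ≤ ι₀ s ⁻¹ᵁ (B' a ⊓ B' b)),
        pb (ι₀ s) h (pb (σ s) (hpre a b) (g a b)) = 1 := by
      intro a b V h
      have h' : V ≤ τ₀ s ⁻¹ᵁ (i₀ ⁻¹ᵁ (B a ⊓ B b)) := by
        rw [← Scheme.Hom.comp_preimage, hτ₀ s, Scheme.Hom.comp_preimage]
        exact h.trans ((ι₀ s).preimage_mono (hpre a b))
      rw [pb_pb, pb_congr (hτ₀ s).symm _ (h'.trans (le_refl _)), ← pb_pb (τ₀ s) i₀ le_rfl h', pb_self, hg1, map_one]
    obtain ⟨G, hG, -⟩ := (Sl₀ s).sheaf.existsUnique_gluing' (fun a => ι₀ s ⁻¹ᵁ B' a) ⊤ (fun a => homOfLE le_top)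
      (fun z _ => Opens.mem_iSup.2 (hcov (σ s (ι₀ s z))))
      u fun a b => by
        show resR (inf_le_left : _ ≤ ι₀ s ⁻¹ᵁ B' a) (u a) = resR (inf_le_right : _ ≤ ι₀ s ⁻¹ᵁ B' b) (u b)
        have hle : ι₀ s ⁻¹ᵁ B' a ⊓ ι₀ s ⁻¹ᵁ B' b ≤ ι₀ s ⁻¹ᵁ (B' a ⊓ B' b) :=
          le_of_eq (Scheme.Hom.preimage_inf (ι₀ s)).symm
        have h1 := congrArg (pb (ι₀ s) hle) (hrel a b)
        rw [map_mul, hgs, one_mul, pb_resR, pb_resR] at h1
        simp only [u, ← pb_self, resR_pb]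
        exact h1.symm
    obtain ⟨V, hV⟩ := hsur s G
    have hVa : ∀ a, (ι₀ s).app (B' a) (resR le_top V) = u a := fun a => by
      rw [app_resR]
      exact (congrArg (resR _) hV).trans (hG a)
    have hVu : ∀ a, IsUnit (resR (le_top : B' a ≤ ⊤) V) := fun a => by
      refine isUnit_of_app (ι₀ s) (ι₀ s).surjective _ ?_
      rw [hVa]
      exact (hvu a).map _
    have hd : ∀ a, ∃ d : Γ(Sl s, B' a),
        v a = (1 + resR (le_top : B' a ≤ ⊤) jS * d) * resR (le_top : B' a ≤ ⊤) V := by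
      intro a
      obtain ⟨w, hw⟩ := hVu a
      have h1 : (ι₀ s).app (B' a) (v a * ↑w⁻¹) = 1 := by
        rw [map_mul, show (ι₀ s).app (B' a) (v a) = u a from rfl, ← hVa, ← hw, ← map_mul, Units.mul_inv, map_one]
      obtain ⟨d, hd⟩ := eq_one_add (hs₀ s) (hB' a) h1
      exact ⟨d, by rw [← hd, ← hw, Units.inv_mul_cancel_right]⟩
    choose d hd using hd
    have hpk : ∀ a, τk s ⁻¹ᵁ (ik ⁻¹ᵁ B a) = ιk s ⁻¹ᵁ B' a := fun a => by
      rw [← Scheme.Hom.comp_preimage, hτk s, Scheme.Hom.comp_preimage]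
    refine ⟨fun a => pb (ιk s) (hpk a).le (d a), fun a b => ?_⟩
    have hT : IsAffineOpen (B' a ⊓ B' b) := by
      rw [← Scheme.Hom.preimage_inf]; exact (hBB a b).preimage _
    have hV2 : IsUnit (resR (le_top : B' a ⊓ B' b ≤ ⊤) V) := by
      have := (hVu a).map (resR (inf_le_left : B' a ⊓ B' b ≤ B' a))
      rwa [resR_resR] at this
    have h1 := hrel a b
    rw [hd, hd, map_mul, map_mul, resR_resR, resR_resR, ← mul_assoc] at h1
    have h2 := hV2.mul_right_cancel h1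
    simp only [hy, map_add, map_one, map_mul, resR_resR, hjS] at h2
    have h0 : resR le_top jS * (resR (inf_le_right : B' a ⊓ B' b ≤ B' b) (d b) -
        resR (inf_le_left : B' a ⊓ B' b ≤ B' a) (d a) - pb (σ s) (hpre a b) (y a b)) = 0 := by
      have hsq : resR (le_top : B' a ⊓ B' b ≤ ⊤) jS * resR le_top jS = 0 := by
        refine sq_zero_res ?_ _
        show (σ s).appTop j * (σ s).appTop j = 0
        rw [← map_mul, hj, map_zero]
      linear_combination h2 + pb (σ s) (hpre a b) (y a b) * resR (inf_le_left : B' a ⊓ B' b ≤ B' a) (d a) * hsq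
    have hle : τk s ⁻¹ᵁ (ik ⁻¹ᵁ B a) ⊓ τk s ⁻¹ᵁ (ik ⁻¹ᵁ B b) ≤ ιk s ⁻¹ᵁ (B' a ⊓ B' b) := by
      rw [Scheme.Hom.preimage_inf, hpk, hpk]
    have h3 := congrArg (resR hle) ((hsk s _ hT _).2 h0)
    rw [← pb_self, resR_pb, map_sub, map_sub, pb_resR, pb_resR, pb_pb, map_zero, sub_eq_zero] at h3
    rw [resR_pb, resR_pb, h3]
    show pb (τk s) _ (pb ik _ (y a b)) = _
    rw [pb_pb]
    exact pb_congr (hτk s) _ _ _
  obtain ⟨η, hη⟩ := hH C hcoc hsl
  have hlift : ∀ a, ∃ z : Γ(W, B a), ik.app (B a) z = η a := fun a => ik.app_surjective (B a) (hB a) (η a)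
  choose z hz using hlift
  let E : ∀ a, Γ(L, B a) := fun a => (1 - resR le_top j * z a) • e a
  have hE : ∀ a, IsFrame (E a) := fun a => (he a).isUnit_smul (IsUnit.of_mul_eq_one (1 + resR le_top j * z a) (by
    linear_combination -(z a * z a) * sq_zero_res hj (B a)))
  obtain ⟨T, hT, -⟩ := AModX.existsUnique_glue (M := L) (V := ⊤) B (fun _ => le_top) (fun p _ => hcov p) E fun a b => by
    have h0 : resR (le_top : B a ⊓ B b ≤ ⊤) j *
        (y a b - resR (inf_le_right : B a ⊓ B b ≤ B b) (z b) + resR (inf_le_left : B a ⊓ B b ≤ B a) (z a)) = 0 := by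
      refine (hk _ (hBB a b) _).1 ?_
      rw [map_add, map_sub, app_resR, app_resR, hz, hz]
      rw [← pb_self, sub_add, sub_eq_zero]
      exact hη a b
    simp only [E]
    rw [AModX.res_smul, AModX.res_smul, hg a b, ← mul_smul]
    refine congrArg (· • _) ?_
    simp only [hy, map_sub, map_one, map_mul, resR_resR]
    linear_combination -h0 + y a b * resR (inf_le_right : B a ⊓ B b ≤ B b) (z b) * sq_zero_res hj (B a ⊓ B b)
  refine triv_of_frame (e := T) (isFrame_of_germwise fun x _ => ?_)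
  obtain ⟨a, ha⟩ := hcov x
  exact ⟨B a, le_top, ha, (hT a).symm ▸ hE a⟩

end Groth.Agent.CubeX17
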